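import Cfsg.Agent.GW.Eight.Setting
import Cfsg.Agent.GW.CaseII.Lemmas
import Cfsg.Agent.ZJ.SL2Facts
import Cfsg.Agent.ZJ.Involve

/-!
# Gorenstein–Walter, dihedral Sylow 2-subgroup of order at least eight: the four group `⟨z, t⟩`

Cyclic permutations of its involutions, normal subgroups of even order, invariant Sylow subgroups.
-/

set_option autoImplicit false
set_option linter.style.haveILetI false
set_option linter.unusedSectionVars false

namespace CfsgLib.GW.Eight.CaseII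

open Subgroup
open CfsgLib.NormCyclic (Inv)
open CfsgLib.DGroup (conj_mem conj_mem' odd_orderOf)

universe u

variable {G : Type u} [Group G] [Fintype G] [Fact (Nat.Prime 2)] (C : Ctx G)

/-- The third involution of the first four group. -/
def zt : G := C.z * C.t

theorem commute_zt : Commute C.z C.t := (C.mem_H.1 C.t_mem_H).symm

theorem z_ne_t : C.z ≠ C.t := fun h => by
  have h1 : Commute C.t C.s := h ▸ ((Commute.refl C.s).pow_left _ : Commute C.z C.s)
  have h2 := C.data.rel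
  rw [h1.eq, mul_inv_cancel_right] at h2
  have h3 : orderOf C.s ∣ 2 := orderOf_dvd_of_pow_eq_one (by
    rw [pow_two, mul_eq_one_iff_eq_inv]; exact h2)
  rw [C.data.ordσ] at h3
  have := Nat.le_of_dvd two_pos h3
  have h4 : 2 ^ 2 ≤ 2 ^ (C.n - 1) :=
    Nat.pow_le_pow_right two_pos (by have := C.data.hn; omega)
  omega

theorem inv_zt : Inv (zt C) := C.inv_z.mul C.inv_t (commute_zt C) (z_ne_t C)

theorem t_eq : C.z * zt C = C.t := by rw [zt, ← mul_assoc, C.inv_z.1, one_mul]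

theorem z_eq : C.t * zt C = C.z := by
  rw [zt, (commute_zt C).eq, ← mul_assoc, C.inv_t.1, one_mul]

theorem z_mem_V1 : C.z ∈ C.V1 := subset_closure (Or.inl rfl)

theorem t_mem_V1 : C.t ∈ C.V1 := subset_closure (Or.inr rfl)

theorem zt_mem_V1 : zt C ∈ C.V1 := mul_mem (z_mem_V1 C) (t_mem_V1 C)

theorem mem_V1 {x : G} : x ∈ C.V1 ↔ x = 1 ∨ x = C.z ∨ x = C.t ∨ x = zt C := by
  constructor
  · intro hx
    have hzz := C.inv_z.1
    have htt := C.inv_t.1
    have h1 : C.z * C.t = zt C := rfl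
    have h2 : C.t * C.z = zt C := (commute_zt C).eq.symm
    have h3 : zt C * C.z = C.t := by rw [← h2, mul_assoc, hzz, mul_one]
    have h4 : zt C * C.t = C.z := by rw [← h1, mul_assoc, htt, mul_one]
    induction hx using closure_induction with
    | mem x hx =>
      rcases hx with rfl | rfl
      exacts [Or.inr (Or.inl rfl), Or.inr (Or.inr (Or.inl rfl))]
    | one => exact Or.inl rfl
    | inv x _ ih =>
      rcases ih with rfl | rfl | rfl | rfl
      exacts [Or.inl inv_one, Or.inr (Or.inl C.inv_z.inv_eq),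
        Or.inr (Or.inr (Or.inl C.inv_t.inv_eq)), Or.inr (Or.inr (Or.inr (inv_zt C).inv_eq))]
    | mul x y _ _ ihx ihy =>
      rcases ihx with rfl | rfl | rfl | rfl <;> rcases ihy with rfl | rfl | rfl | rfl <;>
        simp [hzz, htt, (inv_zt C).1, h1, h2, h3, h4, t_eq C, z_eq C]
  · rintro (rfl | rfl | rfl | rfl)
    exacts [one_mem _, z_mem_V1 C, t_mem_V1 C, zt_mem_V1 C]

theorem commute_of_mem_V1 {x y : G} (hx : x ∈ C.V1) (hy : y ∈ C.V1) : Commute x y := by
  have h := commute_zt C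
  have h1 : Commute C.z (zt C) := (Commute.refl C.z).mul_right h
  have h2 : Commute C.t (zt C) := h.symm.mul_right (Commute.refl C.t)
  rcases (mem_V1 C).1 hx with rfl | rfl | rfl | rfl <;>
    rcases (mem_V1 C).1 hy with rfl | rfl | rfl | rfl <;>
    first
      | exact Commute.one_left _
      | exact Commute.one_right _
      | exact Commute.refl _
      | exact h
      | exact h.symm
      | exact h1
      | exact h1.symm
      | exact h2
      | exact h2.symm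

theorem sq_of_mem_V1 {x : G} (hx : x ∈ C.V1) : x * x = 1 := by
  rcases (mem_V1 C).1 hx with rfl | rfl | rfl | rfl
  exacts [one_mul 1, C.inv_z.1, C.inv_t.1, (inv_zt C).1]

theorem card_V1 : Nat.card C.V1 = 4 := by
  classical
  have h1 : C.z ≠ zt C := fun h => C.inv_t.2 (mul_eq_left.1 h.symm)
  have h2 : C.t ≠ zt C := fun h => C.inv_z.2 (mul_eq_right.1 h.symm)
  show Nat.card (C.V1 : Set G) = 4
  rw [show (C.V1 : Set G) = ({1, C.z, C.t, zt C} : Set G) from Set.ext fun x => by simp [mem_V1 C]]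
  rw [Nat.card_coe_set_eq, Set.ncard_insert_of_notMem (by
      simp [C.inv_z.2.symm, C.inv_t.2.symm, (inv_zt C).2.symm]),
    Set.ncard_insert_of_notMem (by simp [z_ne_t C, h1]), Set.ncard_pair h2]

theorem isPGroup_V1 : IsPGroup 2 C.V1 :=
  IsPGroup.of_card (n := 2) (by rw [card_V1 C]; rfl)

theorem isSolvable_V1 : Group.IsSolvable C.V1 :=
  Group.isSolvable_of_comm fun x y => Subtype.ext (commute_of_mem_V1 C x.2 y.2)

theorem coprime_V1 {A : Subgroup G} (h : Odd (Nat.card A)) :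
    (Nat.card C.V1).Coprime (Nat.card A) := by
  rw [card_V1 C]; exact ((Nat.coprime_two_left.2 h).pow_left 2 :)

theorem z_mem_P : C.z ∈ (C.P : Subgroup G) := pow_mem C.data.σ_mem _

theorem V1_le_P : C.V1 ≤ (C.P : Subgroup G) := (closure_le _).2 (by
  rintro x (rfl | rfl)
  exacts [z_mem_P C, C.data.τ_mem])

theorem V1_le_H : C.V1 ≤ C.H := (V1_le_P C).trans C.P_le_H

theorem commute_t_of_mem_P {p : G} (hp : p ∈ (C.P : Subgroup G)) (h : Commute p C.t) :
    p ∈ C.V1 := by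
  have key : ∀ w ∈ zpowers C.s, Commute w C.t → w = 1 ∨ w = C.z := fun w hw hc => by
    refine C.data.eq_z hw (inv_eq_iff_mul_eq_one.1 ?_)
    have h1 := C.data.conj_τ hw
    rwa [← hc.eq, mul_inv_cancel_right, eq_comm] at h1
  rcases C.data.cases p hp with h1 | h1
  · rcases key p h1 h with rfl | rfl
    exacts [one_mem _, z_mem_V1 C]
  · have e : p = p * C.t * C.t := by rw [mul_assoc, C.inv_t.1, mul_one]
    rcases key _ h1 (h.mul_left (Commute.refl _)) with h2 | h2 <;> rw [e, h2]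
    exacts [by rw [one_mul]; exact t_mem_V1 C, zt_mem_V1 C]

/-- The 2-elements centralising the four group lie in it. -/
theorem mem_V1_of_commute {x : G} (hz : Commute x C.z) (ht : Commute x C.t)
    (hx : ∃ k, x ^ 2 ^ k = 1) : x ∈ C.V1 := by
  have hxH : x ∈ centralizer ({C.s ^ 2 ^ (C.n - 2)} : Set G) := C.mem_H.2 hz
  set p := C.data.ret ⟨x, hxH⟩ with hp
  have htH : C.t ∈ centralizer ({C.s ^ 2 ^ (C.n - 2)} : Set G) := C.t_mem_H
  have hpt : Commute (p : G) C.t := by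
    have h1 : C.data.ret (⟨x, hxH⟩ * ⟨C.t, htH⟩) = C.data.ret (⟨C.t, htH⟩ * ⟨x, hxH⟩) :=
      congrArg _ (Subtype.ext ht.eq)
    rw [map_mul, map_mul, C.data.ret_apply' htH C.data.τ_mem] at h1
    exact congrArg Subtype.val h1
  have hpV := commute_t_of_mem_P C p.2 hpt
  have hpH : (p : G) ∈ centralizer ({C.s ^ 2 ^ (C.n - 2)} : Set G) := C.P_le_H p.2
  have hxp : Commute x (p : G)⁻¹ := by
    refine Commute.inv_right ?_
    rcases (mem_V1 C).1 hpV with e | e | e | e <;> rw [e]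
    exacts [Commute.one_right x, hz, ht, hz.mul_right ht]
  obtain ⟨k, hk⟩ := hx
  have hpow : (x * (p : G)⁻¹) ^ 2 ^ (k + 1) = 1 := by
    rw [hxp.mul_pow, pow_succ, pow_mul, hk, one_pow, one_mul, mul_comm, pow_mul, pow_two,
      ← mul_inv_rev, sq_of_mem_V1 C hpV, inv_one, one_pow]
  have hker : (⟨x * (p : G)⁻¹, mul_mem hxH (inv_mem hpH)⟩ :
      centralizer ({C.s ^ 2 ^ (C.n - 2)} : Set G)) ∈ C.data.ret.ker := by
    rw [MonoidHom.mem_ker]
    refine (congrArg C.data.ret (show _ = ⟨x, hxH⟩ * (⟨p, hpH⟩)⁻¹ from Subtype.ext rfl)).trans ?_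
    rw [map_mul, map_inv]
    exact mul_inv_eq_one.2 (C.data.ret_apply p).symm
  rw [C.data.ker_ret] at hker
  have hodd := CfsgLib.SectionCount.not_dvd_orderOf Nat.prime_two hker
  rw [Subgroup.orderOf_mk] at hodd
  obtain ⟨j, -, hj⟩ := (Nat.dvd_prime_pow Nat.prime_two).1 (orderOf_dvd_of_pow_eq_one hpow)
  have hone : x * (p : G)⁻¹ = 1 := by
    rw [← orderOf_eq_one_iff, hj]
    rcases j with _ | j
    · exact pow_zero 2
    · exact absurd (hj ▸ dvd_pow_self 2 j.succ_ne_zero) hodd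
  exact mul_inv_eq_one.1 hone ▸ hpV

/-- An element exchanging `t` and `z * t`. -/
def sw : G := C.s ^ 2 ^ (C.n - 3)

theorem sw_mem_P : sw C ∈ (C.P : Subgroup G) := pow_mem C.data.σ_mem _

theorem sw_commute_z : Commute (sw C) C.z := ((Commute.refl C.s).pow_left _).pow_right _

theorem sw_conj {r : G} (hr : r ∈ (C.P : Subgroup G)) (hr2 : r * r = 1) (hrz : r ≠ C.z)
    (hr1 : r ≠ 1) : sw C * r * (sw C)⁻¹ = C.z * r := by
  have hs : sw C * sw C = C.z := by
    rw [sw, ← pow_add, ← two_mul, ← pow_succ',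
      show C.n - 3 + 1 = C.n - 2 by have := C.data.hn; omega]
    rfl
  obtain ⟨i, hi⟩ : ∃ i : ℤ, C.s ^ i = r * C.t := by
    rcases C.data.cases r hr with h | h
    · rcases C.data.eq_z h hr2 with e | e
      exacts [absurd e hr1, absurd e hrz]
    · exact mem_zpowers_iff.1 h
  have hst : C.t * (sw C)⁻¹ = sw C * C.t := by
    refine mul_inv_eq_iff_eq_mul.1 ?_
    have h := C.data.conj_τ (inv_mem (npow_mem_zpowers C.s (2 ^ (C.n - 3))))
    rwa [inv_inv] at h
  have hrt : r = C.s ^ i * C.t := by rw [hi, mul_assoc, C.inv_t.1, mul_one]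
  rw [hrt, show sw C * (C.s ^ i * C.t) * (sw C)⁻¹ = sw C * C.s ^ i * (C.t * (sw C)⁻¹) by group, hst,
    show sw C * C.s ^ i * (sw C * C.t) = sw C * (C.s ^ i * sw C) * C.t by group,
    ← show sw C * C.s ^ i = C.s ^ i * sw C from (((Commute.refl C.s).pow_left _).zpow_right i).eq,
    ← mul_assoc, hs, mul_assoc]

theorem sw_t : sw C * C.t * (sw C)⁻¹ = zt C :=
  sw_conj C C.data.τ_mem C.inv_t.1 (z_ne_t C).symm C.inv_t.2

theorem sw_zt : sw C * zt C * (sw C)⁻¹ = C.t := by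
  have h := sw_conj C (r := zt C) (mul_mem (z_mem_P C) C.data.τ_mem) (inv_zt C).1
    (fun h => C.inv_t.2 (mul_eq_left.1 h)) (inv_zt C).2
  rw [h, t_eq C]

/-- A cyclic permutation of the involutions of the four group. -/
structure Cycle (n : G) : Prop where
  hz : n * C.z * n⁻¹ = C.t
  ht : n * C.t * n⁻¹ = zt C

theorem exists_cycle : ∃ n, Cycle C n := by
  obtain ⟨g, hg⟩ := isConj_iff.1 C.conj.1
  change g * C.z * g⁻¹ = C.t at hg
  set r0 := g⁻¹ * C.z * g with hr0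
  have hr0I : Inv r0 := by have := C.inv_z.conj g⁻¹; rwa [inv_inv] at this
  have hr0H : r0 ∈ C.H := C.mem_H.2 (by
    have h := (Commute.conj_iff g⁻¹).2 (commute_zt C)
    rwa [inv_inv, ← hg, show g⁻¹ * (g * C.z * g⁻¹) * g = C.z by group] at h)
  obtain ⟨T, hT⟩ := (IsPGroup.of_card (p := 2) (n := 1) (by
    rw [Nat.card_zpowers, ← Subgroup.orderOf_coe, hr0I.orderOf, pow_one]) :
    IsPGroup 2 (zpowers (⟨r0, hr0H⟩ : C.H))).exists_le_sylow
  obtain ⟨h, hh⟩ := MulAction.exists_smul_eq C.H T (C.P.subtype C.P_le_H)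
  set r := (h : G) * r0 * (h : G)⁻¹ with hr
  have hrP : r ∈ (C.P : Subgroup G) := by
    have : h * ⟨r0, hr0H⟩ * h⁻¹ ∈ (C.P.subtype C.P_le_H : Subgroup C.H) := by
      rw [← hh]; exact ⟨⟨r0, hr0H⟩, hT (mem_zpowers _), rfl⟩
    exact this
  have hhz : Commute (h : G) C.z := C.mem_H.1 h.2
  have hrI := hr0I.conj (h : G)
  have hrz : r ≠ C.z := fun e => z_ne_t C (by
    have : r0 = C.z := by
      rw [show r0 = (h : G)⁻¹ * r * h by rw [hr]; group, e, mul_assoc, ← hhz.eq, inv_mul_cancel_left]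
    calc C.z = g * r0 * g⁻¹ := by rw [hr0]; group
      _ = C.t := by rw [this, hg])
  refine ⟨sw C * (g * (h : G)⁻¹ * sw C * h * g⁻¹), ?_, ?_⟩
  · have e : g * (h : G)⁻¹ * sw C * h * g⁻¹ * C.z * (g * (h : G)⁻¹ * sw C * h * g⁻¹)⁻¹ = zt C := by
      rw [show g * (h : G)⁻¹ * sw C * h * g⁻¹ * C.z * (g * (h : G)⁻¹ * sw C * h * g⁻¹)⁻¹ =
        g * ((h : G)⁻¹ * (sw C * r * (sw C)⁻¹) * h) * g⁻¹ by rw [hr, hr0]; group,
        sw_conj C hrP hrI.1 hrz hrI.2, hr,
        show g * ((h : G)⁻¹ * (C.z * ((h : G) * r0 * (h : G)⁻¹)) * h) * g⁻¹ =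
          g * ((h : G)⁻¹ * (C.z * h) * r0) * g⁻¹ by group, ← hhz.eq, inv_mul_cancel_left, hr0,
        show g * (C.z * (g⁻¹ * C.z * g)) * g⁻¹ = g * C.z * g⁻¹ * C.z by group, hg,
        (commute_zt C).eq.symm]
      rfl
    calc sw C * (g * (h : G)⁻¹ * sw C * h * g⁻¹) * C.z * (sw C * (g * (h : G)⁻¹ * sw C * h * g⁻¹))⁻¹
        = sw C * (g * (h : G)⁻¹ * sw C * h * g⁻¹ * C.z * (g * (h : G)⁻¹ * sw C * h * g⁻¹)⁻¹) *
            (sw C)⁻¹ := by group
      _ = C.t := by rw [e, sw_zt C]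
  · have e : g * (h : G)⁻¹ * sw C * h * g⁻¹ * C.t * (g * (h : G)⁻¹ * sw C * h * g⁻¹)⁻¹ = C.t := by
      rw [show g * (h : G)⁻¹ * sw C * h * g⁻¹ * C.t * (g * (h : G)⁻¹ * sw C * h * g⁻¹)⁻¹ =
        g * ((h : G)⁻¹ * (sw C * (h * (g⁻¹ * C.t * g) * (h : G)⁻¹) * (sw C)⁻¹) * h) * g⁻¹ by group,
        show g⁻¹ * C.t * g = C.z by rw [← hg]; group, hhz.eq, mul_inv_cancel_right,
        (sw_commute_z C).eq, mul_inv_cancel_right, mul_assoc (h : G)⁻¹, ← hhz.eq,
        inv_mul_cancel_left, hg]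
    calc sw C * (g * (h : G)⁻¹ * sw C * h * g⁻¹) * C.t * (sw C * (g * (h : G)⁻¹ * sw C * h * g⁻¹))⁻¹
        = sw C * (g * (h : G)⁻¹ * sw C * h * g⁻¹ * C.t * (g * (h : G)⁻¹ * sw C * h * g⁻¹)⁻¹) *
            (sw C)⁻¹ := by group
      _ = zt C := by rw [e, sw_t C]

namespace Cycle

variable {C} {n m : G} (h : Cycle C n)
include h

theorem hc : n * zt C * n⁻¹ = C.z := by
  rw [show n * zt C * n⁻¹ = n * C.z * n⁻¹ * (n * C.t * n⁻¹) by rw [zt]; group, h.hz, h.ht, z_eq C]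

theorem inv_t : n⁻¹ * C.t * n = C.z := by rw [← h.hz]; group

theorem inv_zt' : n⁻¹ * zt C * n = C.t := by rw [← h.ht]; group

theorem inv_z : n⁻¹ * C.z * n = zt C := by
  calc n⁻¹ * C.z * n = n⁻¹ * (n * zt C * n⁻¹) * n := by rw [h.hc]
    _ = _ := by group

theorem mem_normalizer : n ∈ normalizer (C.V1 : Set G) := by
  refine mem_normalizer_iff_map_conj_eq.2 (eq_of_le_of_card_ge ?_
    (card_map_of_injective (MulAut.conj n).injective).ge)
  rintro _ ⟨x, hx, rfl⟩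
  show n * x * n⁻¹ ∈ C.V1
  rcases (mem_V1 C).1 hx with rfl | rfl | rfl | rfl
  · simp
  · rw [h.hz]; exact t_mem_V1 C
  · rw [h.ht]; exact zt_mem_V1 C
  · rw [h.hc]; exact z_mem_V1 C

/-- Two cycles differ by an element centralising the four group. -/
theorem commute_left (h' : Cycle C m) :
    Commute (m * n⁻¹) C.z ∧ Commute (m * n⁻¹) C.t := by
  refine ⟨mul_inv_eq_iff_eq_mul.1 ?_, mul_inv_eq_iff_eq_mul.1 ?_⟩
  · rw [show m * n⁻¹ * C.z * (m * n⁻¹)⁻¹ = m * (n⁻¹ * C.z * n) * m⁻¹ by group, h.inv_z, h'.hc]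
  · rw [show m * n⁻¹ * C.t * (m * n⁻¹)⁻¹ = m * (n⁻¹ * C.t * n) * m⁻¹ by group, h.inv_t, h'.hz]

theorem commute_right (h' : Cycle C m) :
    Commute (n⁻¹ * m) C.z ∧ Commute (n⁻¹ * m) C.t := by
  refine ⟨mul_inv_eq_iff_eq_mul.1 ?_, mul_inv_eq_iff_eq_mul.1 ?_⟩
  · rw [show n⁻¹ * m * C.z * (n⁻¹ * m)⁻¹ = n⁻¹ * (m * C.z * m⁻¹) * n by group, h'.hz, h.inv_t]
  · rw [show n⁻¹ * m * C.t * (n⁻¹ * m)⁻¹ = n⁻¹ * (m * C.t * m⁻¹) * n by group, h'.ht, h.inv_zt']

theorem mul_left {e : G} (hez : Commute e C.z) (het : Commute e C.t) : Cycle C (e * n) := by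
  refine ⟨?_, ?_⟩
  · rw [show e * n * C.z * (e * n)⁻¹ = e * (n * C.z * n⁻¹) * e⁻¹ by group, h.hz, het.eq,
      mul_inv_cancel_right]
  · rw [show e * n * C.t * (e * n)⁻¹ = e * (n * C.t * n⁻¹) * e⁻¹ by group, h.ht,
      show e * zt C = zt C * e from (hez.mul_right het).eq, mul_inv_cancel_right]

theorem mul_right {e : G} (hez : Commute e C.z) (het : Commute e C.t) : Cycle C (n * e) := by
  refine ⟨?_, ?_⟩
  · rw [show n * e * C.z * (n * e)⁻¹ = n * (e * C.z * e⁻¹) * n⁻¹ by group, hez.eq,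
      mul_inv_cancel_right, h.hz]
  · rw [show n * e * C.t * (n * e)⁻¹ = n * (e * C.t * e⁻¹) * n⁻¹ by group, het.eq,
      mul_inv_cancel_right, h.ht]

end Cycle

/-- A normal subgroup of even order of a subgroup containing the four group meets it. -/
theorem exists_mem_V1 {L N : Subgroup G} (hVL : C.V1 ≤ L) (hNL : N ≤ L)
    (hn : L ≤ normalizer (N : Set G)) (hN : Even (Nat.card N)) :
    ∃ v ∈ C.V1, v ≠ 1 ∧ v ∈ N := by
  obtain ⟨v, hv⟩ := exists_prime_orderOf_dvd_card' 2 (even_iff_two_dvd.1 hN)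
  obtain ⟨T, hT⟩ := ((isPGroup_V1 C).comap_subtype (K := L)).exists_le_sylow
  obtain ⟨R, hR⟩ := (IsPGroup.of_card (p := 2) (n := 1) (by
    rw [Nat.card_zpowers, ← Subgroup.orderOf_coe, show ((⟨v, hNL v.2⟩ : L) : G) = (v : G) from rfl,
      Subgroup.orderOf_coe, hv, pow_one]) :
    IsPGroup 2 (zpowers (⟨v, hNL v.2⟩ : L))).exists_le_sylow
  obtain ⟨g, hg⟩ := MulAction.exists_smul_eq L R T
  set S := (T : Subgroup L).map L.subtype with hS
  have hSp : IsPGroup 2 S := T.2.map _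
  have hSn : S ≤ normalizer (N : Set G) := (map_subtype_le _).trans hn
  haveI := hSp.isNilpotent
  haveI : (N.subgroupOf S).Normal := ⟨fun x hx y => conj_mem (K := N) (hSn y.2) hx⟩
  have hne : N.subgroupOf S ≠ ⊥ := fun h => by
    have hm : g * ⟨v, hNL v.2⟩ * g⁻¹ ∈ (T : Subgroup L) := by
      rw [← hg]; exact ⟨⟨v, hNL v.2⟩, hR (mem_zpowers _), rfl⟩
    have h1 : (g : G) * v * (g : G)⁻¹ ∈ S := ⟨_, hm, rfl⟩
    have h2 : (⟨_, h1⟩ : S) ∈ N.subgroupOf S := conj_mem (hn g.2) v.2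
    rw [h, mem_bot] at h2
    have : (v : G) = 1 := conj_eq_one_iff.1 (congrArg Subtype.val h2)
    rw [← Subgroup.orderOf_coe, this, orderOf_one] at hv
    omega
  obtain ⟨⟨c, hc⟩, hc1⟩ := ne_bot_iff_exists_ne_one.1
    (CfsgLib.PGroupBasic.inf_center_ne_bot (N.subgroupOf S) hne)
  have hin : ∀ x ∈ C.V1, x ∈ S := fun x hx => ⟨⟨x, hVL hx⟩, hT hx, rfl⟩
  have hcom : ∀ x ∈ C.V1, Commute (c : G) x := fun x hx => by
    have := congrArg Subtype.val (mem_center_iff.1 hc.2 ⟨x, hin x hx⟩)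
    exact this.symm
  obtain ⟨k, hk⟩ := hSp c
  exact ⟨c, mem_V1_of_commute C (hcom _ (z_mem_V1 C)) (hcom _ (t_mem_V1 C))
    ⟨k, congrArg Subtype.val hk⟩, fun h => hc1 (Subtype.ext (Subtype.ext h)), hc.1⟩

theorem V1_le_of_even {L N : Subgroup G} (hVL : C.V1 ≤ L) (hNL : N ≤ L)
    (hn : L ≤ normalizer (N : Set G)) (hN : Even (Nat.card N)) {n : G} (hc : Cycle C n)
    (hnN : n ∈ normalizer (N : Set G)) : C.V1 ≤ N := by
  obtain ⟨v, hv, hv1, hvN⟩ := exists_mem_V1 C hVL hNL hn hN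
  have hrot : ∀ {x y : G}, n * x * n⁻¹ = y → x ∈ N → y ∈ N := fun e hx => e ▸ conj_mem hnN hx
  have hzt : C.z ∈ N ∧ C.t ∈ N := by
    rcases (mem_V1 C).1 hv with rfl | rfl | rfl | rfl
    · exact absurd rfl hv1
    · exact ⟨hvN, hrot hc.hz hvN⟩
    · exact ⟨hrot hc.hc (hrot hc.ht hvN), hvN⟩
    · exact ⟨hrot hc.hc hvN, hrot hc.hz (hrot hc.hc hvN)⟩
  exact (closure_le _).2 (by rintro x (rfl | rfl); exacts [hzt.1, hzt.2])

/-- A subgroup normalised by the four group and meeting it trivially has odd order. -/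
theorem odd_of_disjoint {X : Subgroup G} (hV : C.V1 ≤ normalizer (X : Set G))
    (h : ∀ v ∈ C.V1, v ∈ X → v = 1) : Odd (Nat.card X) := by
  by_contra hX
  obtain ⟨v, hv, hv1, hvX⟩ := exists_mem_V1 C (L := X ⊔ C.V1) le_sup_right le_sup_left
    (sup_le le_normalizer hV) (Nat.not_odd_iff_even.1 hX)
  exact hv1 (h v hv hvX)

/-- A Sylow subgroup of `U` normalised by the Sylow 2-subgroup. -/
structure SylowU (p : ℕ) (Q : Subgroup G) : Prop where
  isPGroup : IsPGroup p Q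
  le : Q ≤ C.U
  index : ¬ p ∣ Q.relIndex C.U
  P_le : (C.P : Subgroup G) ≤ normalizer (Q : Set G)

theorem exists_sylowU (p : ℕ) [Fact p.Prime] : ∃ Q, SylowU C p Q := by
  haveI := C.P.2.isNilpotent
  obtain ⟨S, hS⟩ := CfsgLib.CoprimeAct.exists_invariant_sylow (A := (C.P : Subgroup G)) (K := C.U)
    (C.P_le_H.trans C.H_le_normalizer_U) (by
      rw [C.data.card_sylow]
      exact ((Nat.coprime_two_left.2 C.odd_U).pow_left _ :))
    (Or.inl inferInstance) p
  refine ⟨_, S.2.map _, map_subtype_le _, ?_, hS⟩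
  rw [relIndex, subgroupOf, comap_map_eq_self_of_injective C.U.subtype_injective]
  exact S.not_dvd_index

/-- The part of an invariant `p`-group centralised by `w` moves into a given Sylow subgroup of `U`
by an element taking `w` to `z`. -/
theorem exists_into {p : ℕ} [Fact p.Prime] (hp2 : p ≠ 2) {Up : Subgroup G} (hUp : SylowU C p Up)
    {Q : Subgroup G} (hQ : IsPGroup p Q) (hQV : C.V1 ≤ normalizer (Q : Set G)) {n w : G}
    (hw : w ∈ C.V1) (hn : n ∈ normalizer (C.V1 : Set G)) (hnw : n * w * n⁻¹ = C.z) :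
    ∃ e, Commute e C.z ∧ Commute e C.t ∧
      ∀ x ∈ Q, Commute x w → e * n * x * (e * n)⁻¹ ∈ Up := by
  set Qw := (Q ⊓ centralizer ({w} : Set G)).map (MulAut.conj n).toMonoidHom with hQw
  have hQU : Qw ≤ C.U := by
    rintro _ ⟨x, hx, rfl⟩
    show n * x * n⁻¹ ∈ C.U
    refine C.mem_U_of_odd (C.mem_H.2 ?_) ?_
    · have := (Commute.conj_iff n).2 (mem_centralizer_singleton_iff.1 hx.2 : Commute x w)
      rwa [hnw] at this
    · rw [CfsgLib.Invol.orderOf_conj_eq]
      exact CaseI.mem_of_pow_prime_pow Fact.out hp2 (CaseI.exists_pow_of_isPGroup hQ hx.1)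
  have hQwV : C.V1 ≤ normalizer (Qw : Set G) := fun v hv => by
    have hv' : n⁻¹ * v * n ∈ C.V1 := conj_mem' hn hv
    have h1 : n⁻¹ * v * n ∈ normalizer ((Q ⊓ centralizer ({w} : Set G) : Subgroup G) : Set G) :=
      CaseI.mem_normalizer_inf (hQV hv')
        (le_normalizer (mem_centralizer_singleton_iff.2 (commute_of_mem_V1 C hv' hw).eq))
    have h2 := le_normalizer_map (MulAut.conj n).toMonoidHom ⟨_, h1, rfl⟩
    rwa [show (MulAut.conj n).toMonoidHom (n⁻¹ * v * n) = v by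
      show n * (n⁻¹ * v * n) * n⁻¹ = v
      group] at h2
  have hVU : C.V1 ≤ normalizer (C.U : Set G) := (V1_le_H C).trans C.H_le_normalizer_U
  obtain ⟨S, hS, hSV⟩ := CfsgLib.CoprimeAct.exists_invariant_sylow_ge (A := C.V1) (K := C.U) hVU
    (coprime_V1 C C.odd_U) (Or.inl (isSolvable_V1 C)) p hQU
    ((hQ.to_le inf_le_left).map _) hQwV
  let TU : Sylow p C.U := (hUp.isPGroup.comap_subtype (K := C.U)).toSylow hUp.index
  have hTU : (TU : Subgroup C.U).map C.U.subtype = Up := map_subgroupOf_eq_of_le hUp.le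
  obtain ⟨c, hc, hcQ⟩ := CfsgLib.CoprimeAct.invariant_sylow_conj hVU (coprime_V1 C C.odd_U)
    (Or.inl (isSolvable_V1 C)) p S TU hSV (by rw [hTU]; exact (V1_le_P C).trans hUp.P_le)
  refine ⟨c, (mem_centralizer_iff.1 hc _ (z_mem_V1 C)).symm,
    (mem_centralizer_iff.1 hc _ (t_mem_V1 C)).symm, fun x hx hxw => ?_⟩
  obtain ⟨y, hy, hye⟩ := hS ⟨x, ⟨hx, mem_centralizer_singleton_iff.2 hxw.eq⟩, rfl⟩
  have h1 : c * y * c⁻¹ ∈ (TU : Subgroup C.U) := by
    rw [← hcQ]; exact ⟨y, hy, rfl⟩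
  have h2 : (c : G) * y * (c : G)⁻¹ ∈ Up := h1
  have e : (y : G) = n * x * n⁻¹ := hye
  rwa [e, show (c : G) * (n * x * n⁻¹) * (c : G)⁻¹ = c * n * x * ((c : G) * n)⁻¹ by group] at h2

include C in
/-- No section of `G` is isomorphic to `Qd(p)`. -/
theorem not_involves_qd {p : ℕ} [Fact p.Prime] (hp : p ≠ 2) :
    ¬ Cfsg.Involves ↥(Cfsg.qd p) G := by
  intro hinv
  obtain ⟨K, f, hf⟩ :=
    CfsgLib.ZJ.exists_surjective_of_involves (CfsgLib.ZJ.involves_sl2_of_qd hinv)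
  obtain ⟨Q, hQ, u, hu, w, hw, huw⟩ := CfsgLib.ZJ.exists_two_group_noncomm hp
  obtain ⟨R, hR⟩ := hQ.exists_le_sylow
  obtain ⟨T⟩ := (inferInstance : Nonempty (Sylow 2 K))
  obtain ⟨g, hg⟩ := MulAction.exists_smul_eq (Matrix.SpecialLinearGroup (Fin 2) (ZMod p))
    (T.mapSurjective hf) R
  obtain ⟨c, rfl⟩ := hf g
  obtain ⟨S, hS⟩ := (T.2.map K.subtype).exists_le_sylow
  obtain ⟨d, hd⟩ := MulAction.exists_smul_eq G S C.P
  have lift : ∀ x ∈ Q, ∃ y : K, f y = x ∧ d * ((c⁻¹ * y * c : K) : G) * d⁻¹ ∈ (C.P : Subgroup G) := by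
    intro x hx
    have h1 := hR hx
    rw [← hg, Sylow.coe_subgroup_smul] at h1
    obtain ⟨x', ⟨y, hy, rfl⟩, rfl⟩ := h1
    refine ⟨c * y * c⁻¹, by simp, ?_⟩
    rw [show c⁻¹ * (c * y * c⁻¹) * c = y by group, ← hd]
    exact ⟨_, hS ⟨y, hy, rfl⟩, rfl⟩
  -- an element of the dihedral group outside the rotations is an involution
  have hcases : ∀ x ∈ Q, ∀ y : K, f y = x → d * ((c⁻¹ * y * c : K) : G) * d⁻¹ ∈ (C.P : Subgroup G) →
      d * ((c⁻¹ * y * c : K) : G) * d⁻¹ ∈ zpowers C.s ∨ x * x = 1 := by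
    intro x _ y hyx hy
    set a := d * ((c⁻¹ * y * c : K) : G) * d⁻¹ with ha
    rcases C.data.cases a hy with h | h
    · exact Or.inl h
    · refine Or.inr ?_
      obtain ⟨i, hi⟩ := mem_zpowers_iff.1 h
      have h1 : C.s ^ i * C.t = a := by rw [hi, mul_assoc, C.inv_t.1, mul_one]
      have h2 : a * a = 1 := by
        rw [← h1, show C.s ^ i * C.t * (C.s ^ i * C.t) = C.s ^ i * (C.t * C.s ^ i * C.t) by group]
        have h3 := C.data.conj_τ (zpow_mem (mem_zpowers C.s) i)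
        rw [C.inv_t.inv_eq] at h3
        rw [h3, mul_inv_cancel]
      have h3 : ((y * y : K) : G) = 1 := by
        have e : ((y * y : K) : G) =
            (c : G) * (d⁻¹ * (a * a) * d) * (c : G)⁻¹ := by
          rw [ha]; simp only [Subgroup.coe_mul, InvMemClass.coe_inv]; group
        rw [e, h2]; group
      rw [← hyx, ← map_mul, show y * y = 1 from Subtype.ext h3, map_one]
  obtain ⟨y, hyu, hy⟩ := lift u hu
  obtain ⟨y', hyw, hy'⟩ := lift w hw
  have hcen : ∀ x : Matrix.SpecialLinearGroup (Fin 2) (ZMod p), x * x = 1 →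
      ∀ v, x * v = v * x := by
    intro x hx v
    have h00 := congrArg (fun M : Matrix.SpecialLinearGroup (Fin 2) (ZMod p) => M 0 0) hx
    have h01 := congrArg (fun M : Matrix.SpecialLinearGroup (Fin 2) (ZMod p) => M 0 1) hx
    have h10 := congrArg (fun M : Matrix.SpecialLinearGroup (Fin 2) (ZMod p) => M 1 0) hx
    have h11 := congrArg (fun M : Matrix.SpecialLinearGroup (Fin 2) (ZMod p) => M 1 1) hx
    simp [Matrix.mul_apply, Fin.sum_univ_two] at h00 h01 h10 h11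
    have hdet := x.2
    rw [Matrix.det_fin_two] at hdet
    set a := x 0 0
    set b := x 0 1
    set e := x 1 0
    set k := x 1 1
    have h2 := CfsgLib.ZJ.two_ne_zero_zmod hp
    have hs : a + k ≠ 0 := fun hs => h2 (by linear_combination a * hs - h00 - hdet)
    have hb : b = 0 := (mul_eq_zero.1 (show b * (a + k) = 0 by linear_combination h01)).resolve_right hs
    have he : e = 0 := (mul_eq_zero.1 (show e * (a + k) = 0 by linear_combination h10)).resolve_right hs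
    have hka : k = a := by
      have h4 : a * a = 1 := by rw [hb, zero_mul, add_zero] at h00; exact h00
      have h5 : a * k = 1 := by rw [hb, zero_mul, sub_zero] at hdet; exact hdet
      linear_combination a * h5 - k * h4
    apply Matrix.SpecialLinearGroup.ext
    intro i j
    simp only [Matrix.SpecialLinearGroup.coe_mul, Matrix.mul_apply, Fin.sum_univ_two]
    fin_cases i <;> fin_cases j <;>
      simp [show x 0 1 = 0 from hb, show x 1 0 = 0 from he, show x 1 1 = x 0 0 from hka, mul_comm]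
  rcases hcases u hu y hyu hy with h | h
  · rcases hcases w hw y' hyw hy' with h' | h'
    · obtain ⟨i, hi⟩ := mem_zpowers_iff.1 h
      obtain ⟨j, hj⟩ := mem_zpowers_iff.1 h'
      refine huw ?_
      rw [← hyu, ← hyw, ← map_mul, ← map_mul]
      refine congrArg f (Subtype.ext ?_)
      have hc := ((Commute.refl C.s).zpow_zpow i j)
      rw [hi, hj] at hc
      have h1 := (Commute.conj_iff d⁻¹).2 hc
      rw [inv_inv] at h1
      have h2 := (Commute.conj_iff (c : G)).2 h1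
      simp only [Subgroup.coe_mul, InvMemClass.coe_inv] at h2 ⊢
      convert h2.eq using 1 <;> group
    · exact huw (hcen w h' u).symm
  · exact huw (hcen u h w)

end CfsgLib.GW.Eight.CaseII
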