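import Cfsg.Agent.GW.Eight.CaseII.Finish

/-!
# Dihedral Sylow 2-subgroup of order at least eight: `C(z)` is a maximal subgroup
-/

set_option autoImplicit false
set_option linter.unusedSectionVars false

namespace CfsgLib.GW.Eight.Ctx

universe u

variable {G : Type u} [Group G] [Fintype G] [Fact (Nat.Prime 2)]

/-- `C(z)` is maximal once no subgroup over it fuses one of the two four groups. -/
theorem isCoatom_H_of_not_fused (C : Ctx G)
    (h1 : ∀ {M : Subgroup G}, M ≠ ⊤ → C.H < M → ¬ Fused M C.z C.t)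
    (h2 : ∀ {M : Subgroup G}, M ≠ ⊤ → C.H < M → ¬ Fused M C.z (C.s * C.t)) : IsCoatom C.H := by
  refine ⟨C.H_ne_top, fun M hlt => by_contra fun hM => ?_⟩
  obtain ⟨M', hle, hmax⟩ := exists_maximal_ge_of_wellFoundedGT (fun K : Subgroup G => K ≠ ⊤) M hM
  have hHM : C.H < M' := hlt.trans_le hle
  exact C.not_lt_of_not_fused hmax.1 (fun K h h' => hmax.eq_of_ge h' h) hHM (h1 hmax.1 hHM)
    (h2 hmax.1 hHM)

end CfsgLib.GW.Eight.Ctx
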