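import Cfsg.Agent.GW.Eight.CaseII.Key
import Cfsg.Agent.GW.CaseII.Cover

/-!
# A proper subgroup containing `⟨z, t⟩` and a cyclic permutation of its involutions

A normal subgroup with an element of odd order outside the core fuses the involutions; an element of
the special shape of the key step lies in the core.
-/

set_option autoImplicit false
set_option linter.style.haveILetI false
set_option linter.unusedSectionVars false

namespace CfsgLib.GW.Eight.CaseII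

open Subgroup
open CfsgLib.NormCyclic (Inv)
open CfsgLib.DGroup (coreIn conj_mem conj_mem' odd_orderOf eq_one_of_sq eq_one_of_inv_eq)

universe u

/-- Three commuting `p`-elements with independent signs under two elements force `p ^ 3` into the
group order. -/
theorem cube_dvd_card {K : Type*} [Group K] [Finite K] {p : ℕ} [Fact p.Prime] (hp2 : p ≠ 2)
    {Z T a b c : K} (ha : orderOf a = p) (hb : orderOf b = p) (hc : orderOf c = p)
    (hab : Commute a b) (hac : Commute a c) (hbc : Commute b c)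
    (haZ : Z * a * Z⁻¹ = a⁻¹) (haT : T * a * T⁻¹ = a) (hbZ : Z * b * Z⁻¹ = b)
    (hbT : T * b * T⁻¹ = b⁻¹) (hcZ : Z * c * Z⁻¹ = c⁻¹) (hcT : T * c * T⁻¹ = c⁻¹) :
    p ^ 3 ∣ Nat.card K := by
  have hpo := (Fact.out : p.Prime).odd_of_ne_two hp2
  have hodd : ∀ {x : K}, orderOf x = p → ∀ i : ℤ, Odd (orderOf (x ^ i)) := fun {x} hx i =>
    (hx.symm ▸ hpo : Odd (orderOf x)).of_dvd_nat (orderOf_dvd_of_pow_eq_one (by
      rw [← zpow_natCast, zpow_comm, zpow_natCast, pow_orderOf_eq_one, one_zpow]))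
  have hzp : ∀ {g x y : K}, g * x * g⁻¹ = y → ∀ i : ℤ, g * x ^ i * g⁻¹ = y ^ i := fun h i => by
    rw [← h, conj_zpow]
  have hn : zpowers a ≤ normalizer (zpowers b : Set K) := zpowers_le.2 (centralizer_le_normalizer _
    (mem_centralizer_iff.2 fun w hw => by
      obtain ⟨i, rfl⟩ := mem_zpowers_iff.1 hw
      exact ((hab.symm.zpow_left i)).eq))
  have hXY : zpowers a ⊓ zpowers b = (⊥ : Subgroup K) := (eq_bot_iff_forall _).2 fun w hw => by
    obtain ⟨i, hi⟩ := mem_zpowers_iff.1 hw.1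
    obtain ⟨j, hj⟩ := mem_zpowers_iff.1 hw.2
    have h1 := hzp haZ i
    rw [hi, inv_zpow, hi, ← hj, hzp hbZ j] at h1
    rw [← hj]
    exact eq_one_of_inv_eq h1.symm (hodd hb j)
  have hcard : Nat.card ↥(zpowers a ⊔ zpowers b) = p * p := by
    have e := CfsgLib.Solvable.card_sup_mul_card_inf hn
    rw [hXY, card_bot, mul_one, Nat.card_zpowers, Nat.card_zpowers, ha, hb] at e
    exact e
  have hn2 : zpowers c ≤ normalizer ((zpowers a ⊔ zpowers b : Subgroup K) : Set K) :=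
    zpowers_le.2 (CaseI.mem_normalizer_sup (centralizer_le_normalizer _
      (mem_centralizer_iff.2 fun w hw => by
        obtain ⟨i, rfl⟩ := mem_zpowers_iff.1 hw
        exact (hac.zpow_left i).eq)) (centralizer_le_normalizer _
      (mem_centralizer_iff.2 fun w hw => by
        obtain ⟨i, rfl⟩ := mem_zpowers_iff.1 hw
        exact (hbc.zpow_left i).eq)))
  have hbot : zpowers c ⊓ (zpowers a ⊔ zpowers b) = (⊥ : Subgroup K) :=
    (eq_bot_iff_forall _).2 fun w hw => by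
      obtain ⟨k, hk⟩ := mem_zpowers_iff.1 hw.1
      obtain ⟨x, hx, y, hy, hxy⟩ := (CfsgLib.Solvable.mem_sup_of_le_normalizer hn).1 hw.2
      obtain ⟨i, rfl⟩ := mem_zpowers_iff.1 hx
      obtain ⟨j, rfl⟩ := mem_zpowers_iff.1 hy
      have hw1 : T * w * T⁻¹ = a ^ i * (b ^ j)⁻¹ := by
        rw [← hxy, ← conj_mul, hzp haT i, hzp hbT j, inv_zpow]
      have hw2 : T * w * T⁻¹ = w⁻¹ := by rw [← hk, hzp hcT k, inv_zpow]
      rw [hw2, ← hxy, mul_inv_rev] at hw1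
      have h1 : (a ^ i)⁻¹ = a ^ i := by
        have h2 := ((hab.zpow_zpow i j).inv_inv).eq
        rw [← h2] at hw1
        exact mul_right_cancel hw1
      have hai : a ^ i = 1 := eq_one_of_inv_eq h1 (hodd ha i)
      rw [hai, one_mul] at hxy
      have h3 : Z * w * Z⁻¹ = w := by rw [← hxy, hzp hbZ j]
      have h4 : Z * w * Z⁻¹ = w⁻¹ := by rw [← hk, hzp hcZ k, inv_zpow]
      exact eq_one_of_inv_eq (h4.symm.trans h3) (hk ▸ hodd hc k)
  have e := CfsgLib.Solvable.card_sup_mul_card_inf hn2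
  rw [hbot, card_bot, mul_one, Nat.card_zpowers, hc, hcard] at e
  exact Dvd.dvd.trans ⟨1, by rw [e]; ring⟩ (card_subgroup_dvd_card _)

/-- The alternating group of degree seven has no such triple. -/
theorem a7_false {p : ℕ} [Fact p.Prime] (hp2 : p ≠ 2) {Z T a b c : alternatingGroup (Fin 7)}
    (ha : a ≠ 1) (hb : b ≠ 1) (hc : c ≠ 1) (hap : ∃ k, a ^ p ^ k = 1) (hbp : ∃ k, b ^ p ^ k = 1)
    (hcp : ∃ k, c ^ p ^ k = 1) (hab : Commute a b) (hac : Commute a c) (hbc : Commute b c)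
    (haZ : Z * a * Z⁻¹ = a⁻¹) (haT : T * a * T⁻¹ = a) (hbZ : Z * b * Z⁻¹ = b)
    (hbT : T * b * T⁻¹ = b⁻¹) (hcZ : Z * c * Z⁻¹ = c⁻¹) (hcT : T * c * T⁻¹ = c⁻¹) : False := by
  have hpr := (Fact.out : p.Prime)
  have order_p : ∀ {x : alternatingGroup (Fin 7)}, x ≠ 1 → (∃ k, x ^ p ^ k = 1) →
      ∃ m : ℕ, orderOf (x ^ m) = p := by
    rintro x hx ⟨k, hk⟩
    obtain ⟨e, -, he⟩ := (Nat.dvd_prime_pow hpr).1 (orderOf_dvd_of_pow_eq_one hk)
    rcases e with _ | e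
    · exact absurd (orderOf_eq_one_iff.1 (he.trans (pow_zero p))) hx
    · refine ⟨p ^ e, ?_⟩
      rw [orderOf_pow_of_dvd (pow_ne_zero _ hpr.ne_zero) (he ▸ pow_dvd_pow p e.le_succ), he,
        pow_succ, Nat.mul_div_cancel_left _ (pow_pos hpr.pos e)]
  obtain ⟨i, hi⟩ := order_p ha hap
  obtain ⟨j, hj⟩ := order_p hb hbp
  obtain ⟨k, hk⟩ := order_p hc hcp
  have hzp : ∀ {g x y : alternatingGroup (Fin 7)}, g * x * g⁻¹ = y → ∀ i : ℕ,
      g * x ^ i * g⁻¹ = y ^ i := fun h i => by rw [← h, conj_pow]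
  have h := cube_dvd_card hp2 hi hj hk (hab.pow_pow i j) (hac.pow_pow i k) (hbc.pow_pow j k)
    (by rw [hzp haZ, inv_pow]) (by rw [hzp haT]) (by rw [hzp hbZ]) (by rw [hzp hbT, inv_pow])
    (by rw [hzp hcZ, inv_pow]) (by rw [hzp hcT, inv_pow])
  rw [nat_card_alternatingGroup, Nat.card_fin] at h
  norm_num [Nat.factorial] at h
  have hle : p ≤ 13 := by
    by_contra hlt
    have h1 : 14 ^ 3 ≤ p ^ 3 := Nat.pow_le_pow_left (by omega) 3
    have h2 := Nat.le_of_dvd (by norm_num) h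
    omega
  have h2 := hpr.two_le
  interval_cases p <;> omega

variable {G : Type u} [Group G] [Fintype G] [Fact (Nat.Prime 2)] (C : Ctx G)

/-- A normal subgroup with an element of odd order outside the core contains the four group and
fuses it. -/
theorem cover {L N : Subgroup G} (hVL : C.V1 ≤ L) {n : G} (hc : Cycle C n) (hnL : n ∈ L)
    (hNL : N ≤ L) (hn : L ≤ normalizer (N : Set G)) {x : G} (hx : x ∈ N) (hxo : Odd (orderOf x))
    (hxW : x ∉ coreIn L) :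
    C.V1 ≤ N ∧ ∃ g ∈ N, g * C.z * g⁻¹ = C.t ∨ g * C.z * g⁻¹ = zt C := by
  have hev : Even (Nat.card N) := by
    rw [← Nat.not_odd_iff_even]
    exact fun h => hxW (CfsgLib.DGroup.le_coreIn hNL hn h hx)
  have hVN : C.V1 ≤ N := V1_le_of_even C hVL hNL hn hev hc (hn hnL)
  refine ⟨hVN, by_contra fun hF => ?_⟩
  push Not at hF
  have hcent : ∀ g ∈ N, g ∈ normalizer (C.V1 : Set G) → Commute g C.z ∧ Commute g C.t := by
    intro g hg hgV
    have hgz : g * C.z * g⁻¹ = C.z := by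
      rcases (mem_V1 C).1 (conj_mem hgV (z_mem_V1 C)) with e | e | e | e
      exacts [absurd (conj_eq_one_iff.1 e) C.inv_z.2, e, absurd e (hF g hg).1,
        absurd e (hF g hg).2]
    refine ⟨mul_inv_eq_iff_eq_mul.1 hgz, mul_inv_eq_iff_eq_mul.1 ?_⟩
    rcases (mem_V1 C).1 (conj_mem hgV (t_mem_V1 C)) with e | e | e | e
    · exact absurd (conj_eq_one_iff.1 e) C.inv_t.2
    · rw [← hgz] at e
      exact absurd (mul_left_cancel (mul_right_cancel e)).symm (z_ne_t C)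
    · exact e
    · exfalso
      set g' := n * g * n⁻¹ with hg'
      have hg'N : g' ∈ N := conj_mem (hn hnL) hg
      have h1 : g' * zt C * g'⁻¹ = C.z := by
        rw [← hc.ht, hg', show n * g * n⁻¹ * (n * C.t * n⁻¹) * (n * g * n⁻¹)⁻¹ =
          n * (g * C.t * g⁻¹) * n⁻¹ by group, e]
        exact hc.hc
      exact (hF g'⁻¹ (inv_mem hg'N)).2 (by rw [inv_inv, ← h1]; group)
  obtain ⟨T, hT⟩ := ((isPGroup_V1 C).comap_subtype (K := N)).exists_le_sylow
  have hTV : (T : Subgroup N).map N.subtype = C.V1 := by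
    by_contra hne
    have hle : C.V1 ≤ (T : Subgroup N).map N.subtype := fun v hv => ⟨⟨v, hVN hv⟩, hT hv, rfl⟩
    obtain ⟨Z', hlt, hZT, hZn⟩ := CfsgLib.Bender.GSide.exists_between
      (lt_of_le_of_ne hle (Ne.symm hne)) (T.2.map N.subtype)
    obtain ⟨g, hg, hgV⟩ := SetLike.exists_of_lt hlt
    obtain ⟨h1, h2⟩ := hcent g (map_subtype_le _ (hZT hg)) (hZn hg)
    obtain ⟨k, hk⟩ := (T.2.map N.subtype) ⟨g, hZT hg⟩
    exact hgV (mem_V1_of_commute C h1 h2 ⟨k, congrArg Subtype.val hk⟩)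
  obtain ⟨K, hK, hKo, hall⟩ := CfsgLib.DGroup.exists_compl_of_burnside T (by
    intro g hg
    have hgV : (g : G) ∈ normalizer (C.V1 : Set G) := by
      rw [← hTV]; exact le_normalizer_map N.subtype ⟨g, hg, rfl⟩
    obtain ⟨h1, h2⟩ := hcent g g.2 hgV
    refine mem_centralizer_iff.2 fun v hv => Subtype.ext ?_
    have hvV : (v : G) ∈ C.V1 := hTV ▸ ⟨v, hv, rfl⟩
    rcases (mem_V1 C).1 hvV with e | e | e | e <;>
      simp only [Subgroup.coe_mul, e]
    exacts [(Commute.one_left _).eq, h1.eq.symm, h2.eq.symm, (h1.mul_right h2).eq.symm])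
  refine hxW (CfsgLib.DGroup.le_coreIn (N := K.map N.subtype) ((map_subtype_le _).trans hNL)
    (fun k hk => ?_) (by rwa [card_map_of_injective N.subtype_injective])
    ⟨⟨x, hx⟩, hall _ (by rwa [Subgroup.orderOf_mk]), rfl⟩)
  have key : ∀ k ∈ L, ∀ r ∈ K.map N.subtype, k * r * k⁻¹ ∈ K.map N.subtype := by
    rintro k hk _ ⟨r, hr, rfl⟩
    refine ⟨⟨k * r * k⁻¹, conj_mem (hn hk) r.2⟩, hall _ ?_, rfl⟩
    rw [Subgroup.orderOf_mk, CfsgLib.Invol.orderOf_conj_eq, Subgroup.orderOf_coe]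
    exact odd_orderOf hKo hr
  exact mem_normalizer_iff.2 fun r => ⟨key k hk r, fun hr => by
    simpa [mul_assoc] using key k⁻¹ (inv_mem hk) _ hr⟩

/-- The element of the key step lies in the core of a proper subgroup normalising its orbit. -/
theorem mem_coreIn_of_triple {L : Subgroup G} (hL : L ≠ ⊤) (hVL : C.V1 ≤ L) {n : G}
    (hn : Cycle C n) (hnL : n ∈ L) {p : ℕ} [Fact p.Prime] (hp2 : p ≠ 2) {y : G} (hy : y ∈ L)
    (hyp : ∃ k, y ^ p ^ k = 1) (hya : C.z * y * C.z⁻¹ = y⁻¹) (hyb : Commute y C.t)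
    (hyz : Commute y (n⁻¹ * y * n)) (hyw : Commute y (n * y * n⁻¹))
    (hzw : Commute (n⁻¹ * y * n) (n * y * n⁻¹)) : y ∈ coreIn L := by
  have hzL : C.z ∈ L := hVL (z_mem_V1 C)
  have htL : C.t ∈ L := hVL (t_mem_V1 C)
  obtain ⟨L₀, hL₀n, hOL, -, hf⟩ := C.IH L hL C.t C.inv_t (commute_zt C) (z_ne_t C).symm
    ⟨hzL, htL, ⟨n, hnL, hn.hz⟩, n⁻¹, inv_mem hnL, by rw [inv_inv]; exact hn.inv_z⟩
  haveI := hL₀n
  have hodd : ∀ g : G, Odd (orderOf (g * y * g⁻¹)) := fun g => by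
    rw [CfsgLib.Invol.orderOf_conj_eq]
    exact CaseI.mem_of_pow_prime_pow Fact.out hp2 hyp
  have hyo : Odd (orderOf y) := CaseI.mem_of_pow_prime_pow Fact.out hp2 hyp
  have heven : Even (Nat.card L₀) := by
    rw [even_iff_two_dvd]
    rcases hf with ⟨F, iF, iFt, hFo, f, hfs, -⟩ | ⟨f, hfs, -⟩
    · refine Dvd.dvd.trans ?_ (Subgroup.card_dvd_of_surjective f hfs)
      have e1 := CaseI.two_mul_card_psl hFo
      have h4 : 4 ∣ Fintype.card F ^ 2 - 1 := by
        obtain ⟨k, hk⟩ := hFo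
        refine ⟨k * (k + 1), ?_⟩
        rw [hk, show (2 * k + 1) ^ 2 = 4 * (k * (k + 1)) + 1 by ring]
        omega
      have h5 : 2 * 2 ∣ 2 * Nat.card (CfsgLib.Linear.SmallSub.P2 F) := e1 ▸ h4.mul_left _
      exact (mul_dvd_mul_iff_left two_ne_zero).1 h5
    · refine Dvd.dvd.trans ?_ (Subgroup.card_dvd_of_surjective f hfs)
      rw [nat_card_alternatingGroup, Nat.card_fin]
      decide
  set Lg := L₀.map L.subtype with hLg
  have hLgn : L ≤ normalizer (Lg : Set G) := fun k hk => le_normalizer_map L.subtype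
    ⟨⟨k, hk⟩, by rw [normalizer_eq_top]; exact mem_top _, rfl⟩
  have hVLg : C.V1 ≤ Lg := V1_le_of_even C hVL (map_subtype_le _) hLgn
    (by rw [hLg, card_map_of_injective L.subtype_injective]; exact heven) hn (hLgn hnL)
  have hmemL : ∀ {v : G} (hv : v ∈ C.V1), (⟨v, hVL hv⟩ : L) ∈ L₀ := fun {v} hv => by
    obtain ⟨w, hw, hwv⟩ := hVLg hv
    rwa [show (⟨v, hVL hv⟩ : L) = w from Subtype.ext hwv.symm]
  have hsq : ∀ {x v : G}, Odd (orderOf x) → v ∈ C.V1 → v * x * v⁻¹ = x⁻¹ →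
      ∀ h : x ∈ L, (⟨x, h⟩ : L) ∈ L₀ := by
    intro x v ho hv hinv h
    have hvL := hmemL hv
    have h2 := mul_mem hvL (hL₀n.conj_mem _ (inv_mem hvL) ⟨x, h⟩)
    have h3 : (⟨v, hVL hv⟩ : L) * (⟨x, h⟩ * (⟨v, hVL hv⟩ : L)⁻¹ * (⟨x, h⟩ : L)⁻¹) =
        (⟨x, h⟩ ^ 2 : L)⁻¹ := Subtype.ext (by
      show v * (x * v⁻¹ * x⁻¹) = (x ^ 2)⁻¹
      rw [show v * (x * v⁻¹ * x⁻¹) = v * x * v⁻¹ * x⁻¹ by group, hinv, pow_two, mul_inv_rev])
    rw [h3] at h2
    exact CfsgLib.Coprime.mem_of_pow_mem_of_coprime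
      (n := 2) (Nat.coprime_two_left.2 (by rwa [Subgroup.orderOf_mk] : Odd (orderOf (⟨x, h⟩ : L))))
      (inv_mem_iff.1 h2)
  -- the signs
  have hconj : ∀ {g x v w : G}, Commute x v → g * v * g⁻¹ = w → w * (g * x * g⁻¹) * w⁻¹ = g * x * g⁻¹ :=
    fun {g x v w} h e => by
      rw [← e, ((Commute.conj_iff g).2 h).symm.eq, mul_inv_cancel_right]
  have hinvg : ∀ {g x v w : G}, v * x * v⁻¹ = x⁻¹ → g * v * g⁻¹ = w →
      w * (g * x * g⁻¹) * w⁻¹ = (g * x * g⁻¹)⁻¹ := fun {g x v w} h e => by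
    rw [← e, show g * v * g⁻¹ * (g * x * g⁻¹) * (g * v * g⁻¹)⁻¹ = g * (v * x * v⁻¹) * g⁻¹ by group, h]
    group
  set y' := n⁻¹ * y * n with hy'
  have hmi : y' = n⁻¹ * y * n⁻¹⁻¹ := by rw [inv_inv]
  set y'' := n * y * n⁻¹ with hy''
  have hy'L : y' ∈ L := mul_mem (mul_mem (inv_mem hnL) hy) hnL
  have hy''L : y'' ∈ L := mul_mem (mul_mem hnL hy) (inv_mem hnL)
  have hyT : C.t * y * C.t⁻¹ = y := by rw [hyb.symm.eq, mul_inv_cancel_right]
  have hy'Z : C.z * y' * C.z⁻¹ = y' := by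
    rw [hmi]; exact hconj hyb (by rw [inv_inv]; exact hn.inv_t)
  have hy'W : zt C * y' * (zt C)⁻¹ = y'⁻¹ := by
    rw [hmi]; exact hinvg hya (by rw [inv_inv]; exact hn.inv_z)
  have hy'T : C.t * y' * C.t⁻¹ = y'⁻¹ := by
    rw [← t_eq C, show C.z * zt C * y' * (C.z * zt C)⁻¹ = C.z * (zt C * y' * (zt C)⁻¹) * C.z⁻¹ by group,
      hy'W, show C.z * y'⁻¹ * C.z⁻¹ = (C.z * y' * C.z⁻¹)⁻¹ by group, hy'Z]
  have hy''T : C.t * y'' * C.t⁻¹ = y''⁻¹ := hinvg hya hn.hz
  have hy''W : zt C * y'' * (zt C)⁻¹ = y'' := hconj hyb hn.ht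
  have hy''Z : C.z * y'' * C.z⁻¹ = y''⁻¹ := by
    rw [← z_eq C, show C.t * zt C * y'' * (C.t * zt C)⁻¹ = C.t * (zt C * y'' * (zt C)⁻¹) * C.t⁻¹ by group,
      hy''W, hy''T]
  have hy'o : Odd (orderOf y') := by rw [hmi]; exact hodd n⁻¹
  set A : L₀ := ⟨⟨y, hy⟩, hsq hyo (z_mem_V1 C) hya hy⟩ with hA
  set B : L₀ := ⟨⟨y', hy'L⟩, hsq hy'o (t_mem_V1 C) hy'T hy'L⟩ with hB
  set D : L₀ := ⟨⟨y'', hy''L⟩, hsq (hodd n) (z_mem_V1 C) hy''Z hy''L⟩ with hD
  set Z : L₀ := ⟨⟨C.z, hzL⟩, hmemL (z_mem_V1 C)⟩ with hZ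
  set T : L₀ := ⟨⟨C.t, htL⟩, hmemL (t_mem_V1 C)⟩ with hT
  have hWn : L ≤ normalizer (coreIn L : Set G) := CfsgLib.DGroup.normalizer_coreIn L
  have hback : y' ∈ coreIn L → y ∈ coreIn L := fun h => by
    have := conj_mem (hWn hnL) h
    rwa [show n * y' * n⁻¹ = y by rw [hy']; group] at this
  have hback' : y'' ∈ coreIn L → y ∈ coreIn L := fun h => by
    have := conj_mem' (hWn hnL) h
    rwa [show n⁻¹ * y'' * n = y by rw [hy'']; group] at this
  rcases hf with ⟨F, iF, iFt, hFo, f, -, hfk⟩ | ⟨f, -, hfk⟩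
  · have hker : ∀ w : L₀, f w = 1 → ((w : L) : G) ∈ coreIn L := fun w hw => by
      rw [← MonoidHom.mem_ker, hfk, mem_subgroupOf] at hw
      exact ⟨_, hw, rfl⟩
    by_cases hA1 : f A = 1
    · exact hker A hA1
    by_cases hB1 : f B = 1
    · exact hback (hker B hB1)
    exfalso
    have hord : ∀ w : L₀, Odd (orderOf ((w : L) : G)) → Odd (orderOf (f w)) := fun w hw =>
      hw.of_dvd_nat ((orderOf_map_dvd f w).trans (by rw [Subgroup.orderOf_coe, Subgroup.orderOf_coe]))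
    have hza : f Z * f Z = 1 := by
      rw [← map_mul, ← map_one f]; exact congrArg f (Subtype.ext (Subtype.ext C.inv_z.1))
    have hz1 : f Z ≠ 1 := fun h => C.inv_z.2 (eq_one_of_sq C.inv_z.1
      (odd_orderOf (CfsgLib.DGroup.odd_coreIn L) (hker Z h)))
    have htz : Commute (f B) (f Z) :=
      Commute.map (Subtype.ext (Subtype.ext (mul_inv_eq_iff_eq_mul.1 hy'Z).symm)) f
    have htx : Commute (f B) (f A) := Commute.map (Subtype.ext (Subtype.ext hyz.eq.symm)) f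
    have hxz := CfsgLib.GW.CaseII.psl_cent hFo hza hz1 htz (hord B hy'o) hB1 htx
    have hinv : f Z * f A * (f Z)⁻¹ = (f A)⁻¹ := by
      rw [← map_inv, ← map_inv, ← map_mul, ← map_mul]
      exact congrArg f (Subtype.ext (Subtype.ext hya))
    rw [hxz.symm.eq, mul_inv_cancel_right] at hinv
    exact hA1 (eq_one_of_inv_eq hinv.symm (hord A hyo))
  · have hker : ∀ w : L₀, f w = 1 → ((w : L) : G) ∈ coreIn L := fun w hw => by
      rw [← MonoidHom.mem_ker, hfk, mem_subgroupOf] at hw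
      exact ⟨_, hw, rfl⟩
    by_cases hA1 : f A = 1
    · exact hker A hA1
    by_cases hB1 : f B = 1
    · exact hback (hker B hB1)
    by_cases hD1 : f D = 1
    · exact hback' (hker D hD1)
    exfalso
    obtain ⟨k, hk⟩ := hyp
    have hpow : ∀ w : L₀, ∀ g : G, ((w : L) : G) = g * y * g⁻¹ → ∃ k, f w ^ p ^ k = 1 :=
      fun w g hw => ⟨k, by
        rw [← map_pow, ← map_one f]
        refine congrArg f (Subtype.ext (Subtype.ext ?_))
        simp only [Subgroup.coe_pow, hw, conj_pow, hk, Subgroup.coe_one]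
        group⟩
    have hsign : ∀ {v w w' : L₀}, ((v : L) : G) * ((w : L) : G) * ((v : L) : G)⁻¹ = ((w' : L) : G) →
        f v * f w * (f v)⁻¹ = f w' := fun {v w w'} h => by
      rw [← map_inv, ← map_mul, ← map_mul]; exact congrArg f (Subtype.ext (Subtype.ext h))
    refine a7_false (p := p) hp2 hA1 hB1 hD1 (hpow A 1 (by simp [hA])) (hpow B n⁻¹ hmi)
      (hpow D n hy'') (Commute.map (Subtype.ext (Subtype.ext hyz.eq)) f)
      (Commute.map (Subtype.ext (Subtype.ext hyw.eq)) f)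
      (Commute.map (Subtype.ext (Subtype.ext hzw.eq)) f) (Z := f Z) (T := f T) ?_ ?_ ?_ ?_ ?_ ?_
    · rw [← map_inv f A]; exact hsign (v := Z) (w := A) (w' := A⁻¹) hya
    · exact hsign hyT
    · exact hsign hy'Z
    · rw [← map_inv f B]; exact hsign (v := T) (w := B) (w' := B⁻¹) hy'T
    · rw [← map_inv f D]; exact hsign (v := Z) (w := D) (w' := D⁻¹) hy''Z
    · rw [← map_inv f D]; exact hsign (v := T) (w := D) (w' := D⁻¹) hy''T

end CfsgLib.GW.Eight.CaseII
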