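import Cfsg.Agent.GW.Eight.CaseII.Over

/-!
# A subgroup of `O_p(M)` normalised by a cyclic permutation of the involutions of `⟨z, t⟩`

Two cyclic permutations differ by an element of `C(z) ≤ M`, so the images of the first element under
all of them lie in `O_p(M)` as soon as one does.
-/

set_option autoImplicit false
set_option linter.style.haveILetI false
set_option linter.unusedSectionVars false

namespace CfsgLib.GW.Eight.CaseII

open Subgroup
open CfsgLib.NormCyclic (Inv)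
open CfsgLib.DGroup (coreIn Op cen conj_mem conj_mem' odd_orderOf eq_one_of_inv_eq)

universe u

variable {G : Type u} [Group G] [Fintype G] [Fact (Nat.Prime 2)] {C : Ctx G}

theorem Cycle.mul_inv {n m : G} (hn : Cycle C n) (hm : Cycle C m) : Cycle C (n * m)⁻¹ := by
  refine ⟨?_, ?_⟩
  · rw [show (n * m)⁻¹ * C.z * (n * m)⁻¹⁻¹ = m⁻¹ * (n⁻¹ * C.z * n) * m by group, hn.inv_z, hm.inv_zt']
  · rw [show (n * m)⁻¹ * C.t * (n * m)⁻¹⁻¹ = m⁻¹ * (n⁻¹ * C.t * n) * m by group, hn.inv_t, hm.inv_z]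

namespace Over

variable {M R : Subgroup G}

/-- The data passed to the final step. -/
def Data (C : Ctx G) (M : Subgroup G) (p : ℕ) : Prop :=
  ∃ (Y : Subgroup G) (n y : G), Y ≤ Op p M ∧ C.V1 ≤ normalizer (Y : Set G) ∧
    n ∈ normalizer (Y : Set G) ∧ Cycle C n ∧ y ∈ Y ∧ y ≠ 1 ∧ C.z * y * C.z⁻¹ = y⁻¹ ∧
    Commute y C.t ∧ Commute y (n⁻¹ * y * n) ∧ Commute y (n * y * n⁻¹) ∧
    Commute (n⁻¹ * y * n) (n * y * n⁻¹)

/-- The key step: the images of the first element under the cyclic permutations stay in `O_p`. -/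
theorem key (hM : Over C M R) {p : ℕ} [Fact p.Prime] (hbad : ∃ x ∈ Op p M, ¬ Commute x C.z)
    (h2 : ∃ r : ℕ, r.Prime ∧ r ≠ p ∧ Op r M ≠ ⊥) : Data C M p := by
  have hp2 := hM.prime_ne_two hbad
  obtain ⟨Up, hUp⟩ := exists_sylowU C p
  obtain ⟨y, hy, hy1, hya, hyb, hyU, hyF⟩ := hM.exists_first hbad hUp
  set F := Op p M with hF
  have hFp : IsPGroup p F := CfsgLib.DGroup.isPGroup_Op p M
  have hMF : M ≤ normalizer (F : Set G) := CfsgLib.DGroup.le_normalizer_Op p M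
  have hyo : Odd (orderOf y) := odd_orderOf (CfsgLib.DGroup.odd_Op p M) hy
  have hyp := CaseI.exists_pow_of_isPGroup hFp hy
  have hzI := C.inv_z
  have htI := C.inv_t
  have hwI := inv_zt C
  have hconj : ∀ {g x v w : G}, Commute x v → g * v * g⁻¹ = w → Commute (g * x * g⁻¹) w :=
    fun {g x v w} h e => e ▸ (Commute.conj_iff g).2 h
  have hinvg : ∀ {g x v w : G}, v * x * v = x⁻¹ → g * v * g⁻¹ = w →
      w * (g * x * g⁻¹) * w = (g * x * g⁻¹)⁻¹ := fun {g x v w} h e => by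
    rw [← e, show g * v * g⁻¹ * (g * x * g⁻¹) * (g * v * g⁻¹) = g * (v * x * v) * g⁻¹ by group, h]
    group
  have hpow : ∀ g : G, ∃ k, (g * y * g⁻¹) ^ p ^ k = 1 := fun g => by
    obtain ⟨k, hk⟩ := hyp
    exact ⟨k, by rw [conj_pow, hk]; group⟩
  have hodd : ∀ g : G, Odd (orderOf (g * y * g⁻¹)) := fun g => by
    rw [CfsgLib.Invol.orderOf_conj_eq]; exact hyo
  have hcop : ∀ (g : G) {q : ℕ}, q.Prime → q ≠ p → (orderOf (g * y * g⁻¹)).Coprime q :=
    fun g q hq hqp => by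
      haveI : Fact q.Prime := ⟨hq⟩
      exact CfsgLib.DGroup.orderOf_coprime (hpow g) hqp.symm
  -- a conjugate of `y` commutes with the elements moved into `M` that it normalises
  have hpq : ∀ (g : G) {q : ℕ}, q.Prime → q ≠ p → ∀ {Q : Subgroup G}, IsPGroup q Q → ∀ x ∈ Q,
      g⁻¹ * x * g ∈ M → g * y * g⁻¹ ∈ normalizer (Q : Set G) → Commute (g * y * g⁻¹) x := by
    intro g q hq hqp Q hQ x hx hxM hgQ
    haveI : Fact q.Prime := ⟨hq⟩
    refine CfsgLib.DGroup.commute_of_pq hqp.symm (hFp.map (MulAut.conj g).toMonoidHom) hQ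
      ⟨y, hy, rfl⟩ hx hgQ ?_
    have h1 := le_normalizer_map (MulAut.conj g).toMonoidHom ⟨g⁻¹ * x * g, hMF hxM, rfl⟩
    rwa [show (MulAut.conj g).toMonoidHom (g⁻¹ * x * g) = x by
      show g * (g⁻¹ * x * g) * g⁻¹ = x
      group] at h1
  have hRn : ∀ q : ℕ, q.Prime → R ≤ normalizer (Op q M : Set G) := fun q hq => by
    haveI : Fact q.Prime := ⟨hq⟩
    exact hM.coreIn_eq ▸ CfsgLib.DGroup.coreIn_le_normalizer_Op q M
  have hVnO : ∀ q : ℕ, q.Prime → C.V1 ≤ normalizer (Op q M : Set G) := fun q hq => by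
    haveI : Fact q.Prime := ⟨hq⟩
    exact hM.V1_le.trans (CfsgLib.DGroup.le_normalizer_Op q M)
  have htwo : ∀ {X : Subgroup G}, ∀ x ∈ Op 2 X, x = 1 := fun {X} x hx => by
    obtain ⟨k, hk⟩ := CfsgLib.DGroup.pow_mem_Op hx
    exact orderOf_eq_one_iff.1 (Nat.eq_one_of_dvd_coprimes ((Nat.coprime_two_right.2
      (odd_orderOf (CfsgLib.DGroup.odd_Op 2 X) hx)).pow_right k) dvd_rfl
      (orderOf_dvd_of_pow_eq_one hk))
  obtain ⟨n, hn⟩ := exists_cycle C
  -- the part at `z t`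
  obtain ⟨e, hez, het, hF1⟩ := exists_into C hp2 hUp hFp (hVnO p Fact.out) (zt_mem_V1 C)
    hn.mem_normalizer hn.hc
  set m := e * n with hmdef
  have hm : Cycle C m := hn.mul_left hez het
  set z' := m⁻¹ * y * m with hz'
  have hmi : ∀ x : G, m⁻¹ * x * m = m⁻¹ * x * m⁻¹⁻¹ := fun x => by rw [inv_inv]
  have hz'a : Commute z' C.z := by
    rw [hz', hmi]
    exact hconj hyb (by rw [inv_inv]; exact hm.inv_t)
  have hz'c : zt C * z' * zt C = z'⁻¹ := by
    rw [hz', hmi]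
    exact hinvg hya (by rw [inv_inv]; exact hm.inv_z)
  have hz'b : C.t * z' * C.t = z'⁻¹ := by
    conv_lhs => rw [← t_eq C]
    rw [show C.z * zt C * z' * (C.z * zt C) = C.z * (zt C * z' * C.z) * zt C by group,
      mul_assoc (zt C), hz'a.eq, ← mul_assoc (zt C),
      commute_of_mem_V1 C (zt_mem_V1 C) (z_mem_V1 C), mul_assoc C.z (zt C) z', ← mul_assoc C.z C.z,
      hzI.1, one_mul, hz'c]
  have hz'o : Odd (orderOf z') := by rw [hz', hmi]; exact hodd m⁻¹
  have hz'1 : z' ≠ 1 := fun h => hy1 (by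
    rw [show y = m * z' * m⁻¹ by rw [hz']; group, h]; group)
  have hz'R : z' ∈ R := hM.U_le_R (C.mem_U_of_odd (C.mem_H.2 hz'a) hz'o)
  have hz'F : z' ∈ F := by
    have main : ∀ q : ℕ, q.Prime → (q ≠ p ∨ q = p) →
        (∀ e ∈ Op q M, z' * (z' * e * z'⁻¹ * e⁻¹) * z'⁻¹ * (z' * e * z'⁻¹ * e⁻¹)⁻¹ ∈ CaseI.frat (Op q M)) ∧
          ((orderOf z').Coprime q → ∀ e ∈ Op q M, Commute z' e) := by
      intro q hq hcase
      haveI : Fact q.Prime := ⟨hq⟩
      by_cases hq2 : q = 2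
      · subst hq2
        exact ⟨fun e he => by rw [htwo e he]; simp,
          fun _ e he => by rw [htwo e he]; exact Commute.one_right _⟩
      refine CaseI.unipotent hq2 (CfsgLib.DGroup.isPGroup_Op q M) htI.1 hwI.1
        (commute_of_mem_V1 C (t_mem_V1 C) (zt_mem_V1 C)) (hVnO q hq (t_mem_V1 C))
        (hVnO q hq (zt_mem_V1 C)) (hRn q hq hz'R) hz'o hz'b ((z_eq C).symm ▸ hz'a)
        fun x hx hxc => ?_
      have hxn : Commute (m * x * m⁻¹) C.z := hconj hxc hm.hc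
      rcases hcase with hqp | rfl
      · have := hpq m⁻¹ hq hqp (CfsgLib.DGroup.isPGroup_Op q M) x hx (by
          rw [inv_inv]; exact hM.H_le (C.mem_H.2 hxn)) (by rw [← hmi]; exact hRn q hq hz'R)
        rwa [← hmi] at this
      · have h1 := hyU _ (hF1 x hx hxc)
        have h2 := (Commute.conj_iff m⁻¹).2 h1
        rw [← hmi, ← hmi, show m⁻¹ * (m * x * m⁻¹) * m = x by group] at h2
        exact h2
    refine CaseI.mem_Op_of_quadratic hp2 (hM.coreIn_eq.symm ▸ hz'R) (by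
      rw [hz', hmi]; exact hpow m⁻¹) (fun q hq hqp x hx => ?_) (main p Fact.out (Or.inr rfl)).1
    exact ((main q hq (Or.inl hqp)).2 (by rw [hz', hmi]; exact hcop m⁻¹ hq hqp) x hx).symm
  -- all cycles
  have hzall : ∀ k, Cycle C k → k⁻¹ * y * k ∈ F ∧ Commute y (k⁻¹ * y * k) := by
    intro k hk
    obtain ⟨h1, -⟩ := hm.commute_right hk
    have hkF : k⁻¹ * y * k ∈ F := by
      rw [show k⁻¹ * y * k = (m⁻¹ * k)⁻¹ * (m⁻¹ * y * m) * (m⁻¹ * k) by group]
      exact conj_mem' (hMF (hM.H_le (C.mem_H.2 h1))) hz'F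
    refine ⟨hkF, hyF _ hkF ?_⟩
    have := hconj (g := k⁻¹) hyb (w := C.z) (by rw [inv_inv]; exact hk.inv_t)
    rwa [inv_inv] at this
  have hpair : ∀ j k, Cycle C j → Cycle C k → Commute (j * y * j⁻¹) (k⁻¹ * y * k) := by
    intro j k hj hk
    have h := (Commute.conj_iff k⁻¹).2 (hzall _ (hk.mul_inv hj)).2.symm
    rw [inv_inv, inv_inv] at h
    rwa [show k⁻¹ * (k * j * y * (k * j)⁻¹) * k = j * y * j⁻¹ by group] at h
  have hyy : ∀ k, Cycle C k → Commute y (k * y * k⁻¹) := fun k hk => by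
    have := (Commute.conj_iff k).2 (hzall k hk).2.symm
    rwa [show k * (k⁻¹ * y * k) * k⁻¹ = y by group] at this
  -- the centraliser of `y` and `z'`
  set X := centralizer ({y, z'} : Set G) with hX
  have hXmem : ∀ {g : G}, g ∈ X ↔ Commute g y ∧ Commute g z' := fun {g} => by
    rw [hX, mem_centralizer_iff]
    simp only [Set.mem_insert_iff, Set.mem_singleton_iff, forall_eq_or_imp, forall_eq]
    exact ⟨fun ⟨h, h'⟩ => ⟨h.symm, h'.symm⟩, fun ⟨h, h'⟩ => ⟨h.eq.symm, h'.eq.symm⟩⟩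
  have hyv : ∀ v ∈ C.V1, (v * y * v⁻¹ = y ∨ v * y * v⁻¹ = y⁻¹) ∧
      (v * z' * v⁻¹ = z' ∨ v * z' * v⁻¹ = z'⁻¹) := by
    intro v hv
    have hi : v⁻¹ = v := inv_eq_of_mul_eq_one_right (sq_of_mem_V1 C hv)
    rw [hi]
    rcases (mem_V1 C).1 hv with rfl | rfl | rfl | rfl
    · simp
    · exact ⟨Or.inr hya, Or.inl (CaseI.conj_eq_of_commute hzI.1 hz'a)⟩
    · exact ⟨Or.inl (CaseI.conj_eq_of_commute htI.1 hyb), Or.inr hz'b⟩
    · refine ⟨Or.inr ?_, Or.inr hz'c⟩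
      calc zt C * y * zt C = C.z * (C.t * y * C.t) * C.z := by
            conv_lhs => rw [zt, (commute_zt C).eq]
            conv_rhs => rw [show C.z * (C.t * y * C.t) * C.z = C.z * C.t * y * (C.t * C.z) by group]
            rw [(commute_zt C).eq]
        _ = y⁻¹ := by rw [CaseI.conj_eq_of_commute htI.1 hyb, hya]
  have hVX : C.V1 ≤ normalizer (X : Set G) := by
    have key : ∀ v ∈ C.V1, ∀ g ∈ X, v * g * v⁻¹ ∈ X := fun v hv g hg => hXmem.2 ⟨by
      have h := (Commute.conj_iff v).2 (hXmem.1 hg).1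
      rcases (hyv v hv).1 with e | e <;> rw [e] at h
      exacts [h, inv_inv y ▸ h.inv_right], by
      have h := (Commute.conj_iff v).2 (hXmem.1 hg).2
      rcases (hyv v hv).2 with e | e <;> rw [e] at h
      exacts [h, inv_inv z' ▸ h.inv_right]⟩
    exact fun v hv => mem_normalizer_iff.2 fun g => ⟨key v hv g, fun hg => by
      simpa [mul_assoc] using key v⁻¹ (inv_mem hv) _ hg⟩
  have hXo : Odd (Nat.card X) := by
    refine odd_of_disjoint C hVX fun v hv hvX => ?_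
    have hi : v * v = 1 := sq_of_mem_V1 C hv
    have h1 := CaseI.conj_eq_of_commute hi (hXmem.1 hvX).1.symm
    have h2 := CaseI.conj_eq_of_commute hi (hXmem.1 hvX).2.symm
    rcases (mem_V1 C).1 hv with rfl | rfl | rfl | rfl
    · rfl
    · exact absurd (eq_one_of_inv_eq (hya.symm.trans h1) hyo) hy1
    · exact absurd (eq_one_of_inv_eq (hz'b.symm.trans h2) hz'o) hz'1
    · exact absurd (eq_one_of_inv_eq (hz'c.symm.trans h2) hz'o) hz'1
  have hXc : coreIn X = X := le_antisymm (CfsgLib.DGroup.coreIn_le X)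
    (CfsgLib.DGroup.le_coreIn le_rfl le_normalizer hXo)
  set E := Op p X with hE
  have hXE : X ≤ normalizer (E : Set G) := CfsgLib.DGroup.le_normalizer_Op p X
  -- `E` lies in the core of `M`
  have hinX : ∀ q : ℕ, q.Prime → q ≠ p → Op q M ≤ X := fun q hq hqp x hx => by
    haveI : Fact q.Prime := ⟨hq⟩
    exact hXmem.2 ⟨CfsgLib.DGroup.Op_commute hqp hx hy, CfsgLib.DGroup.Op_commute hqp hx hz'F⟩
  have hER : E ≤ R := by
    obtain ⟨r, hr, hrp, hrM⟩ := h2
    haveI : Fact r.Prime := ⟨hr⟩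
    set A := F ⊓ X with hA
    have hrcop : (Nat.card (Op r M)).Coprime p := by
      obtain ⟨k, hk⟩ := IsPGroup.iff_card.1 (CfsgLib.DGroup.isPGroup_Op r M)
      rw [hk]; exact ((Nat.coprime_primes hr Fact.out).2 hrp).pow_left k
    have hne : F ≠ ⊥ := fun h => hy1 (by rw [h, mem_bot] at hy; exact hy)
    have h := CfsgLib.CoprimeAct.p_times_q_aux _ p A (Op r M) E rfl (hFp.to_le inf_le_left) hrcop
      (CfsgLib.DGroup.isPGroup_Op p X)
      (fun a ha => mem_centralizer_iff.2 fun x hx => (CfsgLib.DGroup.Op_commute hrp hx ha.1).eq)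
      (inf_le_right.trans hXE) ((hinX r hr hrp).trans hXE) (fun e he => by
        have heM : e ∈ M := hM.centralizer_cen_le hne (mem_centralizer_iff.2 fun z hz =>
          mem_centralizer_iff.1 he.2 z ⟨hz.1, hXmem.2
            ⟨CfsgLib.DGroup.cen_commute hz hy, CfsgLib.DGroup.cen_commute hz hz'F⟩⟩)
        refine mem_centralizer_iff.2 fun x hx => ?_
        exact (CfsgLib.DGroup.commute_of_pq hrp (CfsgLib.DGroup.isPGroup_Op r M)
          (CfsgLib.DGroup.isPGroup_Op p X) hx he.1 (hXE (hinX r hr hrp hx))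
          (CfsgLib.DGroup.le_normalizer_Op r M heM)).eq)
    rw [commutator_eq_bot_iff_le_centralizer] at h
    intro e he
    exact hM.mem_of_odd e (hM.centralizer_cen_le hrM (mem_centralizer_iff.2 fun z hz =>
      mem_centralizer_iff.1 (h he) z hz.1)) (odd_orderOf (CfsgLib.DGroup.odd_Op p X) he)
  have hVE : C.V1 ≤ normalizer (E : Set G) := hVX.trans
    ((CfsgLib.DGroup.normalizer_le_normalizer_coreIn X).trans
      (CfsgLib.DGroup.normalizer_le_normalizer_opIn p (coreIn X)))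
  -- the part at `t`
  set P0 := F ⊔ E with hP0
  have hP0p : IsPGroup p P0 := hFp.to_sup_of_normal_left' (CfsgLib.DGroup.isPGroup_Op p X)
    ((hER.trans hM.le).trans hMF)
  have hP0V : C.V1 ≤ normalizer (P0 : Set G) := fun v hv =>
    CaseI.mem_normalizer_sup (hVnO p Fact.out hv) (hVE hv)
  obtain ⟨d, hdz, hdt, hP⟩ := exists_into C hp2 hUp hP0p hP0V (t_mem_V1 C)
    (inv_mem hn.mem_normalizer) (by rw [inv_inv]; exact hn.inv_t)
  set j := n * d⁻¹ with hjdef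
  have hj : Cycle C j := hn.mul_right hdz.inv_left hdt.inv_left
  have hPj : ∀ x ∈ P0, Commute x C.t → j⁻¹ * x * j ∈ Up := fun x hx hxt => by
    have := hP x hx hxt
    rwa [show d * n⁻¹ * x * (d * n⁻¹)⁻¹ = j⁻¹ * x * j by rw [hjdef]; group] at this
  set z0 := j * y * j⁻¹ with hz0
  have hz0c : Commute z0 (zt C) := hconj hyb hj.ht
  have hz0b : C.t * z0 * C.t = z0⁻¹ := hinvg hya hj.hz
  have hz0a : C.z * z0 * C.z = z0⁻¹ := by
    conv_lhs => rw [← z_eq C]
    rw [show C.t * zt C * z0 * (C.t * zt C) = C.t * (zt C * z0 * C.t) * zt C by group,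
      mul_assoc (zt C), ← mul_assoc C.t (zt C),
      commute_of_mem_V1 C (t_mem_V1 C) (zt_mem_V1 C), mul_assoc (zt C) C.t,
      ← mul_assoc C.t z0, hz0b, mul_assoc, hz0c.inv_left.eq, ← mul_assoc, hwI.1, one_mul]
  have hz0X : z0 ∈ X := hXmem.2 ⟨(hyy j hj).symm, hpair j m hj hm⟩
  have hfixp : ∀ x ∈ P0, Commute x C.t → Commute z0 x := fun x hx hxb => by
    have h1 := hconj (g := j) (hyU _ (hPj x hx hxb)).symm (w := z0) rfl
    rw [show j * (j⁻¹ * x * j) * j⁻¹ = x by group] at h1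
    exact h1.symm
  have hmain : ∀ (K : Subgroup G), z0 ∈ coreIn K →
      (∀ q : ℕ, q.Prime → C.V1 ≤ normalizer (Op q K : Set G)) → Op p K ≤ P0 → z0 ∈ Op p K := by
    intro K hz0K hVK hKP
    have main : ∀ q : ℕ, q.Prime → q ≠ 2 → (q ≠ p ∨ q = p) →
        (∀ e ∈ Op q K, z0 * (z0 * e * z0⁻¹ * e⁻¹) * z0⁻¹ * (z0 * e * z0⁻¹ * e⁻¹)⁻¹ ∈ CaseI.frat (Op q K)) ∧
          ((orderOf z0).Coprime q → ∀ e ∈ Op q K, Commute z0 e) := by
      intro q hq hq2 hcase
      haveI : Fact q.Prime := ⟨hq⟩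
      refine CaseI.unipotent hq2 (CfsgLib.DGroup.isPGroup_Op q K) hzI.1 htI.1 (commute_zt C)
        (hVK q hq (z_mem_V1 C)) (hVK q hq (t_mem_V1 C))
        (CfsgLib.DGroup.coreIn_le_normalizer_Op q K hz0K) (hodd j) hz0a hz0c fun x hx hxb => ?_
      rcases hcase with hqp | rfl
      · refine hpq j hq hqp (CfsgLib.DGroup.isPGroup_Op q K) x hx (hM.H_le (C.mem_H.2 ?_))
          (CfsgLib.DGroup.coreIn_le_normalizer_Op q K hz0K)
        have := hconj (g := j⁻¹) hxb (w := C.z) (by rw [inv_inv]; exact hj.inv_t)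
        rwa [inv_inv] at this
      · exact hfixp x (hKP hx) hxb
    refine CaseI.mem_Op_of_quadratic hp2 hz0K (hpow j) (fun q hq hqp x hx => ?_)
      (main p Fact.out hp2 (Or.inr rfl)).1
    by_cases hq2 : q = 2
    · subst hq2; rw [htwo x hx]; exact Commute.one_left _
    exact ((main q hq hq2 (Or.inl hqp)).2 (hcop j hq hqp) x hx).symm
  have hz0E : z0 ∈ E := hmain X (hXc.symm ▸ hz0X) (fun q hq => by
    haveI : Fact q.Prime := ⟨hq⟩
    exact hVX.trans ((CfsgLib.DGroup.normalizer_le_normalizer_coreIn X).trans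
      (CfsgLib.DGroup.normalizer_le_normalizer_opIn q (coreIn X)))) le_sup_right
  have hz0F : z0 ∈ F := hmain M (hM.coreIn_eq.symm ▸ hER hz0E) hVnO le_sup_left
  have hnF : n * y * n⁻¹ ∈ F := by
    rw [show n * y * n⁻¹ = n * j⁻¹ * (j * y * j⁻¹) * (n * j⁻¹)⁻¹ by group]
    exact conj_mem (hMF (hM.H_le (C.mem_H.2 (hj.commute_left hn).1))) hz0F
  -- the orbit
  set Y := closure (Set.range fun i : ℤ => n ^ i * y * (n ^ i)⁻¹) with hY
  have hn3 : n ^ (3 : ℤ) ∈ M := hM.H_le (C.mem_H.2 (mul_inv_eq_iff_eq_mul.1 (by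
    rw [show n ^ (3 : ℤ) * C.z * (n ^ (3 : ℤ))⁻¹ = n * (n * (n * C.z * n⁻¹) * n⁻¹) * n⁻¹ by
      rw [show (3 : ℤ) = 1 + 1 + 1 from rfl, zpow_add, zpow_add, zpow_one]
      simp only [mul_inv_rev, mul_assoc],
      hn.hz, hn.ht, hn.hc])))
  have horb : ∀ i : ℤ, n ^ i * y * (n ^ i)⁻¹ ∈ F := by
    intro i
    obtain ⟨k, r, hr, rfl⟩ : ∃ k r : ℤ, (r = -1 ∨ r = 0 ∨ r = 1) ∧ i = 3 * k + r :=
      ⟨(i + 1) / 3, (i + 1) % 3 - 1, by omega, by omega⟩
    have h1 : n ^ r * y * (n ^ r)⁻¹ ∈ F := by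
      rcases hr with rfl | rfl | rfl
      · rw [zpow_neg_one, inv_inv]; exact (hzall n hn).1
      · rw [zpow_zero, one_mul, inv_one, mul_one]; exact hy
      · rw [zpow_one]; exact hnF
    rw [zpow_add, zpow_mul,
      show (n ^ (3 : ℤ)) ^ k * n ^ r * y * ((n ^ (3 : ℤ)) ^ k * n ^ r)⁻¹ =
        (n ^ (3 : ℤ)) ^ k * (n ^ r * y * (n ^ r)⁻¹) * ((n ^ (3 : ℤ)) ^ k)⁻¹ by group]
    exact conj_mem (hMF (zpow_mem hn3 k)) h1
  refine ⟨Y, n, y, (closure_le _).2 (Set.range_subset_iff.2 horb), fun v hv => ?_, ?_, hn,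
    subset_closure ⟨0, by simp⟩, hy1, by rw [hzI.inv_eq]; exact hya, hyb, (hzall n hn).2,
    hyy n hn, (hpair n n hn hn).symm⟩
  · have key : ∀ v ∈ C.V1, Y.map (MulAut.conj v).toMonoidHom ≤ Y := by
      intro v hv
      rw [hY, MonoidHom.map_closure, closure_le]
      rintro _ ⟨_, ⟨i, rfl⟩, rfl⟩
      show v * (n ^ i * y * (n ^ i)⁻¹) * v⁻¹ ∈ Y
      rw [show v * (n ^ i * y * (n ^ i)⁻¹) * v⁻¹ =
        n ^ i * ((n ^ i)⁻¹ * v * n ^ i * y * ((n ^ i)⁻¹ * v * n ^ i)⁻¹) * (n ^ i)⁻¹ by group]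
      rcases (hyv _ (conj_mem' (zpow_mem hn.mem_normalizer i) hv)).1 with e | e <;> rw [e]
      · exact subset_closure ⟨i, rfl⟩
      · rw [show n ^ i * y⁻¹ * (n ^ i)⁻¹ = (n ^ i * y * (n ^ i)⁻¹)⁻¹ by group]
        exact inv_mem (subset_closure ⟨i, rfl⟩)
    exact mem_normalizer_iff_map_conj_eq.2 (eq_of_le_of_card_ge (key v hv)
      (card_map_of_injective (MulAut.conj v).injective).ge)
  · refine mem_normalizer_iff_map_conj_eq.2 (eq_of_le_of_card_ge ?_
      (card_map_of_injective (MulAut.conj n).injective).ge)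
    rw [hY, MonoidHom.map_closure, closure_le]
    rintro _ ⟨_, ⟨i, rfl⟩, rfl⟩
    refine subset_closure ⟨1 + i, ?_⟩
    show n ^ (1 + i) * y * (n ^ (1 + i))⁻¹ = n * (n ^ i * y * (n ^ i)⁻¹) * n⁻¹
    rw [zpow_one_add]; group

end Over

end CfsgLib.GW.Eight.CaseII
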