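import Cfsg.Agent.GW.Eight.Invol
import Cfsg.Agent.GW.Eight.CaseII.Basic
import Cfsg.Agent.ZStar.Final
import Cfsg.Agent.Fusion.InnerZJ
import Cfsg.Agent.GW.CaseII.Pair

/-!
# A maximal subgroup over `C(z)` without fusion

It is `R P` with `R` of odd order; the central involution moves some `O_p(R)`, and the Fitting
subgroup of `R` then has a second prime.
-/

set_option autoImplicit false
set_option linter.style.haveILetI false
set_option linter.unusedSectionVars false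

namespace CfsgLib.GW.Eight.CaseII

open Subgroup
open CfsgLib.NormCyclic (Inv)
open CfsgLib.DGroup (coreIn Op cen conj_mem conj_mem' odd_orderOf eq_one_of_sq eq_one_of_inv_eq)
open CfsgLib.GW.CaseII (Self)
open scoped CfsgLib.Functor

universe u

variable {G : Type u} [Group G] [Fintype G] [Fact (Nat.Prime 2)] (C : Ctx G)

/-- A maximal subgroup `M = R P` over `C(z)`. -/
structure Over (C : Ctx G) (M R : Subgroup G) : Prop where
  H_le : C.H ≤ M
  ne_top : M ≠ ⊤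
  max : ∀ K : Subgroup G, M ≤ K → K ≠ ⊤ → K = M
  le : R ≤ M
  norm : M ≤ normalizer (R : Set G)
  odd : Odd (Nat.card R)
  mem_of_odd : ∀ x ∈ M, Odd (orderOf x) → x ∈ R
  decomp : ∀ m ∈ M, ∃ r ∈ R, ∃ p ∈ (C.P : Subgroup G), m = r * p

theorem normalizer_ne_top {X : Subgroup G} (hX : X ≠ ⊥) (hX' : X ≠ ⊤) (C : Ctx G) :
    normalizer (X : Set G) ≠ ⊤ := fun h => by
  haveI := C.simple
  rcases (normalizer_eq_top_iff.1 h).eq_bot_or_eq_top with h' | h'
  exacts [hX h', hX' h']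

include C in
/-- Without fusion in both four groups a maximal subgroup over `C(z)` is `R P`. -/
theorem exists_over {M : Subgroup G} (hM : M ≠ ⊤)
    (hmax : ∀ K : Subgroup G, M ≤ K → K ≠ ⊤ → K = M) (hH : C.H ≤ M)
    (h1 : ¬ Fused M C.z C.t) (h2 : ¬ Fused M C.z (C.s * C.t)) : ∃ R, Over C M R := by
  have hPM : (C.P : Subgroup G) ≤ M := C.P_le_H.trans hH
  have hzM : C.z ∈ M := hH C.z_mem_H
  obtain ⟨N, hN, hNo, hcomm⟩ := CfsgLib.ZStar.zstar_of_sylow (C.P.subtype hPM)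
      (a := (⟨C.z, hzM⟩ : M)) (by rw [← Subgroup.orderOf_coe]; exact C.inv_z.orderOf) (by
    intro g hg
    refine Subtype.ext ?_
    show (g : G) * C.z * (g : G)⁻¹ = C.z
    set w := (g : G) * C.z * (g : G)⁻¹ with hw
    have hwP : w ∈ (C.P : Subgroup G) := hg
    have hwI : Inv w := C.inv_z.conj (g : G)
    rcases C.data.cases w hwP with h | h
    · exact (C.data.eq_z h hwI.1).resolve_left hwI.2
    exfalso
    obtain ⟨i, hi⟩ := mem_zpowers_iff.1 h
    have hwi : w = C.s ^ i * C.t := by rw [hi, mul_assoc, C.inv_t.1, mul_one]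
    have hmv : ∀ j k : ℤ, i = 2 * j + k →
        C.s ^ (-j) * (g : G) * C.z * (C.s ^ (-j) * (g : G))⁻¹ = C.s ^ k * C.t := by
      rintro j k rfl
      have hst : C.t * C.s ^ j = C.s ^ (-j) * C.t := by
        refine mul_inv_eq_iff_eq_mul.1 ?_
        rw [C.data.conj_τ (zpow_mem (mem_zpowers _) j), zpow_neg]
      rw [show C.s ^ (-j) * (g : G) * C.z * (C.s ^ (-j) * (g : G))⁻¹ =
          C.s ^ (-j) * w * (C.s ^ (-j))⁻¹ by rw [hw]; group, hwi,
        zpow_neg C.s j, inv_inv, mul_assoc _ (C.s ^ (2 * j + k) * C.t),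
        mul_assoc (C.s ^ (2 * j + k)), hst, ← zpow_neg C.s j, ← mul_assoc, ← mul_assoc, ← zpow_add,
        ← zpow_add]
      congr 2
      ring
    rcases Int.even_or_odd i with ⟨j, hj⟩ | ⟨j, hj⟩
    · refine h1 (C.fused_of_move hPM (mul_mem (zpow_mem (hPM C.data.σ_mem) (-j)) g.2) ?_)
      rw [hmv j 0 (by omega), zpow_zero, one_mul]
    · refine h2 (C.flip.fused_of_move hPM (mul_mem (zpow_mem (hPM C.data.σ_mem) (-j)) g.2) ?_)
      show _ * C.z * _ = C.s * C.t
      rw [hmv j 1 (by omega), zpow_one])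
  set R := coreIn M with hR
  have hRn : M ≤ normalizer (R : Set G) := CfsgLib.DGroup.normalizer_coreIn M
  have hRo : Odd (Nat.card R) := CfsgLib.DGroup.odd_coreIn M
  have hRM : R ≤ M := CfsgLib.DGroup.coreIn_le M
  -- `M = R C(z)`
  have hdec : ∀ m ∈ M, ∃ j ∈ R, j⁻¹ * m ∈ C.H := by
    intro m hm
    set i := m * C.z * m⁻¹ * C.z with hi
    have hiR : i ∈ R := by
      have h := N.inv_mem (hcomm ⟨m, hm⟩)
      refine ⟨⟨i, mul_mem (mul_mem (mul_mem hm hzM) (inv_mem hm)) hzM⟩, ?_, rfl⟩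
      have e : (⟨i, mul_mem (mul_mem (mul_mem hm hzM) (inv_mem hm)) hzM⟩ : M) =
          (⟨C.z, hzM⟩ * ⟨m, hm⟩ * (⟨C.z, hzM⟩ : M)⁻¹ * (⟨m, hm⟩ : M)⁻¹)⁻¹ := Subtype.ext (by
        simp only [Subgroup.coe_mul, InvMemClass.coe_inv, mul_inv_rev, inv_inv, C.inv_z.inv_eq, hi,
          mul_assoc])
      rw [e]
      exact CfsgLib.DGroup.le_oddCore hN hNo h
    have hzi : C.z * i * C.z = i⁻¹ := by
      rw [hi, mul_inv_rev, mul_inv_rev, mul_inv_rev, inv_inv, C.inv_z.inv_eq]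
      simp only [mul_assoc, C.inv_z.1, mul_one]
    obtain ⟨k, hk⟩ := odd_orderOf hRo hiR
    refine ⟨i ^ (k + 1), pow_mem hiR _, C.mem_H.2 (mul_inv_eq_iff_eq_mul.1 ?_)⟩
    have hzj : C.z * i ^ (k + 1) * C.z = (i ^ (k + 1))⁻¹ := by
      rw [← CaseI.conj_invol_eq C.inv_z.1, ← conj_pow, CaseI.conj_invol_eq C.inv_z.1, hzi, inv_pow]
    have hj2 : i ^ (k + 1) * i ^ (k + 1) = i := by
      rw [← pow_add, show k + 1 + (k + 1) = orderOf i + 1 by omega, pow_succ, pow_orderOf_eq_one,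
        one_mul]
    have hjz : C.z * i ^ (k + 1) = (i ^ (k + 1))⁻¹ * C.z := by
      rw [← hzj, mul_assoc, C.inv_z.1, mul_one]
    calc (i ^ (k + 1))⁻¹ * m * C.z * ((i ^ (k + 1))⁻¹ * m)⁻¹
        = (i ^ (k + 1))⁻¹ * (i * C.z⁻¹) * i ^ (k + 1) := by rw [hi]; group
      _ = (i ^ (k + 1))⁻¹ * i * (C.z * i ^ (k + 1)) := by rw [C.inv_z.inv_eq]; group
      _ = (i ^ (k + 1))⁻¹ * (i * (i ^ (k + 1))⁻¹) * C.z := by rw [hjz]; group
      _ = (i ^ (k + 1))⁻¹ * i ^ (k + 1) * C.z := by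
          rw [show i * (i ^ (k + 1))⁻¹ = i ^ (k + 1) by rw [mul_inv_eq_iff_eq_mul, hj2]]
      _ = C.z := by group
  have hUR : C.U ≤ R := by
    have hUM : C.U ≤ M := C.U_le_H.trans hH
    refine le_sup_right.trans (CfsgLib.DGroup.le_coreIn (N := R ⊔ C.U) (sup_le hRM hUM)
      (fun m hm => ?_) ?_)
    · obtain ⟨j, hj, hjm⟩ := hdec m hm
      rw [show m = j * (j⁻¹ * m) by group]
      exact mul_mem (le_normalizer (mem_sup_left hj))
        (CaseI.mem_normalizer_sup (hRn (hH hjm)) (C.H_le_normalizer_U hjm))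
    · have e := CfsgLib.Solvable.card_sup_mul_card_inf (show C.U ≤ normalizer (R : Set G) from
        hUM.trans hRn)
      rw [sup_comm] at e
      exact (Nat.odd_mul.1 (e.symm ▸ Nat.odd_mul.2 ⟨C.odd_U, hRo⟩)).1
  refine ⟨R, hH, hM, hmax, hRM, hRn, hRo, ?_, ?_⟩
  rotate_left
  · intro m hm
    obtain ⟨j, hj, hjm⟩ := hdec m hm
    obtain ⟨u, hu, p, hp, e⟩ := C.exists_mul_P hjm
    exact ⟨j * u, mul_mem hj (hUR hu), p, hp, by rw [mul_assoc, ← e, mul_inv_cancel_left]⟩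
  · intro x hx ho
    obtain ⟨j, hj, hjm⟩ := hdec x hx
    obtain ⟨u, hu, p, hp, e⟩ := C.exists_mul_P hjm
    have hxp : x = j * u * p := by rw [mul_assoc, ← e, mul_inv_cancel_left]
    have key : ∀ k : ℕ, x ^ k * (p ^ k)⁻¹ ∈ R := by
      intro k
      induction k with
      | zero => simp
      | succ k ih =>
        rw [pow_succ, pow_succ p,
          show x ^ k * x * (p ^ k * p)⁻¹ = x ^ k * (p ^ k)⁻¹ * (p ^ k * (x * p⁻¹) * (p ^ k)⁻¹) by group]
        refine mul_mem ih (conj_mem (hRn (hH (C.P_le_H (pow_mem hp k)))) ?_)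
        rw [hxp, mul_inv_cancel_right]
        exact mul_mem hj (hUR hu)
    have h := key (orderOf x)
    rw [pow_orderOf_eq_one, one_mul, inv_mem_iff] at h
    obtain ⟨l, hl⟩ := IsPGroup.iff_orderOf.1 C.P.2 ⟨p, hp⟩
    rw [Subgroup.orderOf_mk] at hl
    have hcop : (2 ^ l).Coprime (orderOf x) := (Nat.coprime_two_left.2 ho).pow_left l
    have hpR : p ∈ R := by
      obtain ⟨a, ha⟩ := exists_pow_eq_self_of_coprime (x := p) (n := orderOf x) (hl ▸ hcop.symm)
      rw [← ha]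
      exact pow_mem h a
    rw [hxp]
    exact mul_mem (mul_mem hj (hUR hu)) hpR

namespace Over

variable {C} {M R : Subgroup G} (hM : Over C M R)
include hM

theorem P_le : (C.P : Subgroup G) ≤ M := C.P_le_H.trans hM.H_le

theorem V1_le : C.V1 ≤ M := (V1_le_P C).trans hM.P_le

theorem eq_of_normal {X : Subgroup G} (hX : X ≠ ⊥) (hXM : X ≤ M)
    (hn : M ≤ normalizer (X : Set G)) : normalizer (X : Set G) = M :=
  hM.max _ hn (normalizer_ne_top hX (fun h => hM.ne_top (top_le_iff.1 (h ▸ hXM))) C)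

theorem coreIn_eq : coreIn M = R :=
  le_antisymm (fun _ hx => hM.mem_of_odd _ (CfsgLib.DGroup.coreIn_le M hx)
    (odd_orderOf (CfsgLib.DGroup.odd_coreIn M) hx))
    (CfsgLib.DGroup.le_coreIn hM.le hM.norm hM.odd)

theorem Op_le_R (p : ℕ) : Op p M ≤ R := hM.coreIn_eq ▸ CfsgLib.DGroup.Op_le p M

theorem U_le_R : C.U ≤ R := fun _ hx =>
  hM.mem_of_odd _ (hM.H_le (C.U_le_H hx)) (odd_orderOf C.odd_U hx)

theorem centralizer_cen_le {p : ℕ} [Fact p.Prime] (h : Op p M ≠ ⊥) :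
    centralizer (cen p M : Set G) ≤ M :=
  (centralizer_le_normalizer _).trans (hM.eq_of_normal (CfsgLib.DGroup.cen_ne_bot h)
    ((inf_le_left.trans (hM.Op_le_R p)).trans hM.le) (CfsgLib.DGroup.le_normalizer_cen p M)).le

theorem self : Self M := fun q hq hne => by
  haveI : Fact q.Prime := ⟨hq⟩
  exact hM.eq_of_normal hne ((hM.Op_le_R q).trans hM.le) (CfsgLib.DGroup.le_normalizer_Op q M)

theorem conj_mul_mem {g : G} (hg : g ∈ M) : g * C.z * g⁻¹ * C.z ∈ R := by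
  obtain ⟨r, hr, p, hp, rfl⟩ := hM.decomp g hg
  have hpz : p * C.z * p⁻¹ = C.z := by
    rw [(show Commute p C.z from C.data.commute_z hp).eq, mul_inv_cancel_right]
  rw [show r * p * C.z * (r * p)⁻¹ * C.z = r * (p * C.z * p⁻¹) * r⁻¹ * C.z by group, hpz,
    show r * C.z * r⁻¹ * C.z = r * (C.z * r⁻¹ * C.z⁻¹) * (C.z * C.z) by group, C.inv_z.1, mul_one]
  exact mul_mem hr (conj_mem (hM.norm (hM.H_le C.z_mem_H)) (inv_mem hr))

theorem not_fused {g : G} (hg : g ∈ M) {v : G} (hv : v ∈ C.V1) (h : g * C.z * g⁻¹ = v) :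
    v = C.z := by
  have h1 := hM.conj_mul_mem hg
  rw [h] at h1
  have h2 := eq_one_of_sq (sq_of_mem_V1 C (mul_mem hv (z_mem_V1 C))) (odd_orderOf hM.odd h1)
  rw [mul_eq_one_iff_eq_inv, C.inv_z.inv_eq] at h2
  exact h2

theorem not_mem_cycle {n : G} (hn : Cycle C n) : n ∉ M := fun h =>
  z_ne_t C (hM.not_fused h (t_mem_V1 C) hn.hz).symm

theorem prime_ne_two {p : ℕ} [Fact p.Prime] (hbad : ∃ x ∈ Op p M, ¬ Commute x C.z) : p ≠ 2 := by
  rintro rfl
  obtain ⟨x, hx, hxa⟩ := hbad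
  obtain ⟨k, hk⟩ := CfsgLib.DGroup.pow_mem_Op hx
  rw [orderOf_eq_one_iff.1 (Nat.eq_one_of_dvd_coprimes
    ((Nat.coprime_two_right.2 (odd_orderOf (CfsgLib.DGroup.odd_Op 2 M) hx)).pow_right k) dvd_rfl
    (orderOf_dvd_of_pow_eq_one hk))] at hxa
  exact hxa (Commute.one_left _)

/-- If `z` centralises the Fitting subgroup of the core then `M = C(z)`. -/
theorem exists_bad (hlt : C.H < M) : ∃ p : ℕ, p.Prime ∧ ∃ x ∈ Op p M, ¬ Commute x C.z := by
  by_contra hc
  push Not at hc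
  refine hlt.not_ge fun m hm => ?_
  obtain ⟨r, hr, v, hv, rfl⟩ := hM.decomp m hm
  refine mul_mem (C.mem_H.2 ?_) (C.P_le_H hv)
  have haR : C.z ∈ normalizer (R : Set G) := hM.norm (hM.H_le C.z_mem_H)
  obtain ⟨f, hf, i, hi, hfa, hia, rfl⟩ := CaseI.exists_split C.inv_z.1 hM.odd haR hr
  have hio := odd_orderOf hM.odd hi
  have hfit : i ∈ MaxBender.fit (coreIn M) :=
    CfsgLib.DGroup.mem_fit_of_commute (hM.coreIn_eq.symm ▸ hi) fun q hq z hz => by
      haveI : Fact q.Prime := ⟨hq⟩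
      exact (CaseI.commute_of_fixed C.inv_z.1 hio hia (hc q hq z hz) (hc q hq _
        (conj_mem (CfsgLib.DGroup.le_normalizer_Op q M (hM.le hi)) hz))).symm
  have hc2 : Commute i C.z := mem_centralizer_singleton_iff.1
    (CfsgLib.DGroup.fit_le_centralizer hc hfit)
  rw [CaseI.conj_eq_of_commute C.inv_z.1 hc2] at hia
  rw [eq_one_of_inv_eq hia.symm hio, mul_one]
  exact hfa

/-- A moved `O_p` is not the whole Fitting subgroup. -/
theorem two_primes {p : ℕ} [Fact p.Prime] (hbad : ∃ x ∈ Op p M, ¬ Commute x C.z) :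
    ∃ r : ℕ, r.Prime ∧ r ≠ p ∧ Op r M ≠ ⊥ := by
  by_contra hc
  push Not at hc
  have hp2 := hM.prime_ne_two hbad
  have hpo := (Fact.out : p.Prime).odd_of_ne_two hp2
  set F := Op p M with hF
  have hFR : F ≤ R := hM.Op_le_R p
  haveI := C.P.2.isNilpotent
  have hcop : (Nat.card (C.P : Subgroup G)).Coprime (Nat.card R) := by
    rw [C.data.card_sylow]; exact ((Nat.coprime_two_left.2 hM.odd).pow_left _ :)
  obtain ⟨Up, hUp⟩ := exists_sylowU C p
  obtain ⟨S, hUS, hSV⟩ := CfsgLib.CoprimeAct.exists_invariant_sylow_ge (A := (C.P : Subgroup G))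
    (K := R) (hM.P_le.trans hM.norm) hcop (Or.inl inferInstance) p (hUp.le.trans hM.U_le_R)
    hUp.isPGroup hUp.P_le
  set Y := (S : Subgroup R).map R.subtype with hY
  have hYp : IsPGroup p Y := S.2.map _
  have hYR : Y ≤ R := map_subtype_le _
  have hYo : Odd (Nat.card Y) := hM.odd.of_dvd_nat (card_dvd_of_le hYR)
  have hFY : F ≤ Y := by
    haveI : (F.subgroupOf R).Normal := (normal_subgroupOf_iff_le_normalizer hFR).2
      (hM.le.trans (CfsgLib.DGroup.le_normalizer_Op p M))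
    have hp : IsPGroup p (F.subgroupOf R) := (CfsgLib.DGroup.isPGroup_Op p M).comap_subtype
    have h1 : F.subgroupOf R ⊔ (S : Subgroup R) = S :=
      S.3 (hp.to_sup_of_normal_left S.2) le_sup_right
    intro x hx
    exact ⟨⟨x, hFR hx⟩, h1.le (mem_sup_left hx), rfl⟩
  obtain ⟨x, hx, hxa⟩ := hbad
  have hY1 : Y ≠ ⊥ := fun h => by
    have := hFY hx
    rw [h, mem_bot] at this
    exact hxa (this ▸ Commute.one_left _)
  set Z := Cfsg.centerThompsonAOf Y with hZ
  -- `ZJ(Y)` is normal in `M`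
  have hO : Cfsg.pPrimeCore p R = ⊥ := by
    refine (map_eq_bot_iff_of_injective _ R.subtype_injective).1
      (CfsgLib.DGroup.eq_bot_of_coprime (M := M) (hM.coreIn_eq.symm ▸ map_subtype_le _)
        (fun g hg => ?_) fun r hr => ?_)
    · haveI := (CfsgLib.Solvable.pPrimeCore_spec (G := R) p).1
      have hgR : g ∈ R := hM.coreIn_eq ▸ hg
      exact le_normalizer_map R.subtype ⟨⟨g, hgR⟩, by rw [normalizer_eq_top]; exact mem_top _, rfl⟩
    · obtain ⟨hr1, hr2⟩ := CfsgLib.DGroup.mem_sig.1 hr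
      have : r = p := by
        by_contra h
        exact hr2 (hc r hr1 h)
      subst this
      rw [card_map_of_injective R.subtype_injective]
      exact CfsgLib.Solvable.coprime_card_pPrimeCore r
  have hRZ : R ≤ normalizer (Z : Set G) := by
    have h1 := CaseI.sup_normalizer_zj (p := p) hM.odd hp2 S
    rw [hO, bot_sup_eq] at h1
    intro r hr
    have h2 : (⟨r, hr⟩ : R) ∈ normalizer (Cfsg.centerThompsonAOf (S : Subgroup R) : Set R) :=
      h1 ▸ mem_top _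
    have h3 : Z = (Cfsg.centerThompsonAOf (S : Subgroup R)).map R.subtype := by
      rw [hZ, hY]
      exact CfsgLib.ZJ.centerThompsonAOf_map _ _ fun x _ h => R.subtype_injective (h.trans (map_one _).symm)
    rw [h3]
    exact le_normalizer_map R.subtype ⟨_, h2, rfl⟩
  have hMZ : M ≤ normalizer (Z : Set G) := fun m hm => by
    obtain ⟨r, hr, v, hv, rfl⟩ := hM.decomp m hm
    exact mul_mem (hRZ hr) (CaseI.normalizer_le_centerThompsonAOf Y (hSV hv))
  have hNZ := hM.eq_of_normal (CfsgLib.Fusion.centerThompsonAOf_ne_bot hYp hY1)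
    ((CaseI.centerThompsonAOf_le Y).trans (hYR.trans hM.le)) hMZ
  obtain ⟨T, hT⟩ := hYp.exists_le_sylow
  have hTY : (T : Subgroup G) = Y := by
    by_contra hne
    obtain ⟨Z', hlt, hZT, hZn⟩ :=
      CfsgLib.Bender.GSide.exists_between (lt_of_le_of_ne hT (Ne.symm hne)) T.2
    have hZp := T.2.to_le hZT
    have hZR : Z' ≤ R := fun z hz => hM.mem_of_odd z
      (hNZ ▸ CaseI.normalizer_le_centerThompsonAOf Y (hZn hz))
      (CaseI.mem_of_pow_prime_pow Fact.out hp2 (CaseI.exists_pow_of_isPGroup hZp hz))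
    have h1 := S.3 (hZp.comap_subtype (K := R)) fun y hy => hlt.le ⟨y, hy, rfl⟩
    obtain ⟨z, hz, hzY⟩ := SetLike.exists_of_lt hlt
    exact hzY ⟨⟨z, hZR hz⟩, h1.le (show (⟨z, hZR hz⟩ : R) ∈ Z'.comap R.subtype from hz), rfl⟩
  obtain ⟨n, hn⟩ := exists_cycle C
  -- nothing in `Y` centralised by `t` or `z t` is inverted by `z`
  have hnone : ∀ w, w = C.t ∨ w = zt C → ∀ x ∈ Y, Commute x w → C.z * x * C.z = x⁻¹ → x = 1 := by
    intro w hw x hx hxw hxz
    obtain ⟨g, hg⟩ : ∃ g : G, g * w * g⁻¹ = C.z := by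
      rcases hw with rfl | rfl
      exacts [⟨n⁻¹, by rw [inv_inv]; exact hn.inv_t⟩, ⟨n, hn.hc⟩]
    have hxo := odd_orderOf hYo hx
    have hgU : g * x * g⁻¹ ∈ C.U := by
      refine C.mem_U_of_odd (C.mem_H.2 ?_) (by rw [CfsgLib.Invol.orderOf_conj_eq]; exact hxo)
      have := (Commute.conj_iff g).2 hxw
      rwa [hg] at this
    obtain ⟨k, hk⟩ := CaseI.exists_pow_of_isPGroup hYp hx
    obtain ⟨j, -, hj⟩ := (Nat.dvd_prime_pow (Fact.out : p.Prime)).1 (orderOf_dvd_of_pow_eq_one hk)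
    obtain ⟨T', hT'⟩ := (IsPGroup.of_card (p := p) (n := j) (by
      rw [Nat.card_zpowers, ← Subgroup.orderOf_coe, CfsgLib.Invol.orderOf_conj_eq, hj]) :
      IsPGroup p (zpowers (⟨g * x * g⁻¹, hgU⟩ : C.U))).exists_le_sylow
    let TU : Sylow p C.U := (hUp.isPGroup.comap_subtype (K := C.U)).toSylow hUp.index
    obtain ⟨u, hu⟩ := MulAction.exists_smul_eq C.U T' TU
    have hm : u * ⟨g * x * g⁻¹, hgU⟩ * u⁻¹ ∈ (TU : Subgroup C.U) := by
      rw [← hu]; exact ⟨⟨g * x * g⁻¹, hgU⟩, hT' (mem_zpowers _), rfl⟩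
    have hmY : (u : G) * g * x * ((u : G) * g)⁻¹ ∈ Up := by
      have : (u : G) * (g * x * g⁻¹) * (u : G)⁻¹ ∈ Up := hm
      rwa [show (u : G) * g * x * ((u : G) * g)⁻¹ = (u : G) * (g * x * g⁻¹) * (u : G)⁻¹ by group]
    obtain ⟨k, hkK, hkx⟩ := CfsgLib.ZJ.control_of_free hp2
      (CfsgLib.ZJ.zkind_centerThompsonA hp2) G (not_involves_qd C hp2) T _
      (CfsgLib.ZJ.stronglyClosed_self T) (zpowers x) ((u : G) * g)
      (zpowers_le.2 (hTY.symm ▸ hx)) (by
        rw [MonoidHom.map_zpowers, zpowers_le, hTY]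
        exact hUS hmY)
    rw [hTY, ← hZ] at hkK
    have hkM : k ∈ M := hNZ ▸ hkK
    have hax : Commute (k⁻¹ * C.z * k) x := by
      have h1 : Commute C.z (k * x * k⁻¹) := by
        rw [hkx _ (mem_zpowers x)]
        exact (C.mem_H.1 (C.U_le_H (hUp.le hmY))).symm
      have := (Commute.conj_iff k⁻¹).2 h1
      rwa [inv_inv, show k⁻¹ * (k * x * k⁻¹) * k = x by group] at this
    have hrR : k⁻¹ * C.z * k * C.z ∈ R := by
      have := hM.conj_mul_mem (inv_mem hkM)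
      rwa [inv_inv] at this
    set r := k⁻¹ * C.z * k * C.z with hr
    have hrx : r * x * r⁻¹ = x⁻¹ := by
      rw [hr, show k⁻¹ * C.z * k * C.z * x * (k⁻¹ * C.z * k * C.z)⁻¹ =
        k⁻¹ * C.z * k * (C.z * x * C.z⁻¹) * (k⁻¹ * C.z * k)⁻¹ by group, C.inv_z.inv_eq, hxz,
        hax.inv_right.eq, mul_inv_cancel_right]
    have hrc : Commute r x := CfsgLib.DGroup.commute_of_sq (odd_orderOf hM.odd hrR) (by
      refine mul_inv_eq_iff_eq_mul.1 ?_
      rw [show r * r * x * (r * r)⁻¹ = r * (r * x * r⁻¹) * r⁻¹ by group, hrx,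
        show r * x⁻¹ * r⁻¹ = (r * x * r⁻¹)⁻¹ by group, hrx, inv_inv])
    rw [hrc.eq, mul_inv_cancel_right] at hrx
    exact eq_one_of_inv_eq hrx.symm hxo
  have hYV : C.V1 ≤ normalizer (Y : Set G) := (V1_le_P C).trans hSV
  refine hxa (mem_centralizer_singleton_iff.1 (CfsgLib.Bender.GSide.le_of_four hpo hYp
    C.inv_z.orderOf C.inv_t.orderOf (commute_zt C) (hYV (z_mem_V1 C)) (hYV (t_mem_V1 C))
    (le_normalizer (mem_centralizer_singleton_iff.2 rfl))
    (le_normalizer (mem_centralizer_singleton_iff.2 (commute_zt C).symm.eq)) ?_ (hFY hx)))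
  intro w y hw hy hwy
  refine mem_centralizer_singleton_iff.2 ?_
  by_cases hwa : w = C.z
  · subst hwa; exact hwy.symm.eq
  have hwv : w = C.t ∨ w = zt C := hw.resolve_left hwa
  have hwV : w ∈ C.V1 := by rcases hwv with rfl | rfl; exacts [t_mem_V1 C, zt_mem_V1 C]
  obtain ⟨f, hf, i, hi, hfa, hia, rfl⟩ := CaseI.exists_split C.inv_z.1
    (hYo.of_dvd_nat (card_dvd_of_le inf_le_left))
    (show C.z ∈ normalizer ((Y ⊓ centralizer ({w} : Set G) : Subgroup G) : Set G) from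
      CaseI.mem_normalizer_inf (hYV (z_mem_V1 C))
        (le_normalizer (mem_centralizer_singleton_iff.2 (commute_of_mem_V1 C (z_mem_V1 C) hwV).eq)))
    (⟨hy, mem_centralizer_singleton_iff.2 hwy.symm.eq⟩ : y ∈ Y ⊓ centralizer ({w} : Set G))
  rw [hnone w hwv i hi.1 (mem_centralizer_singleton_iff.1 hi.2) hia, mul_one]
  exact hfa.eq

/-- The first element: inverted by `z`, fixed by `Uₚ` and by `t`, centralising the part of
`O_p` fixed by `z`. -/
theorem exists_first {p : ℕ} [Fact p.Prime] (hbad : ∃ x ∈ Op p M, ¬ Commute x C.z) {Up : Subgroup G}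
    (hUp : SylowU C p Up) :
    ∃ y ∈ Op p M, y ≠ 1 ∧ C.z * y * C.z = y⁻¹ ∧ Commute y C.t ∧
      (∀ x ∈ Up, Commute y x) ∧ ∀ z ∈ Op p M, Commute z C.z → Commute y z := by
  have hp2 := hM.prime_ne_two hbad
  set F := Op p M with hF
  have hFo : Odd (Nat.card F) := CfsgLib.DGroup.odd_Op p M
  have hMF : M ≤ normalizer (F : Set G) := CfsgLib.DGroup.le_normalizer_Op p M
  have haM : C.z ∈ M := hM.H_le C.z_mem_H
  obtain ⟨N, hNF, ⟨hNn, hNbad⟩, hNmin⟩ := exists_minimal_le_of_wellFoundedLT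
    (fun N : Subgroup G => M ≤ normalizer (N : Set G) ∧ ∃ x ∈ N, ¬ Commute x C.z) F ⟨hMF, hbad⟩
  set N0 := ⁅N, F⁆ with hN0
  have hFM : F ≤ M := (hM.Op_le_R p).trans hM.le
  have hN0le : N0 ≤ N := le_normalizer_iff_commutator_le_left.1 (hFM.trans hNn)
  have hN0n : M ≤ normalizer (N0 : Set G) := fun g hg => by
    have h1 := mem_normalizer_iff_map_conj_eq.1 (hNn hg)
    have h2 := mem_normalizer_iff_map_conj_eq.1 (hMF hg)
    rw [mem_normalizer_iff_map_conj_eq, hN0, map_commutator, h1, h2]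
  have hN0a : ∀ x ∈ N0, Commute x C.z := by
    intro x hx
    by_contra hxa
    have heq : N0 = N := le_antisymm hN0le (hNmin ⟨hN0n, x, hx, hxa⟩ hN0le)
    haveI := (CfsgLib.DGroup.isPGroup_Op p M).isNilpotent
    obtain ⟨m, hm⟩ := (Subgroup.isNilpotent_iff_lowerCentralSeries F).1 inferInstance
    have hle : ∀ i, N ≤ F.lowerCentralSeries i := by
      intro i
      induction i with
      | zero => exact hNF
      | succ i hi => exact heq.ge.trans (commutator_mono hi le_rfl)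
    have h1 := hm ▸ hle m (hN0le hx)
    rw [mem_bot.1 h1] at hxa
    exact hxa (Commute.one_left _)
  -- some element moved by `z` is fixed by `Uₚ`
  set N2 := N ⊓ centralizer (Up : Set G) with hN2
  have hUpM : Up ≤ M := hUp.le.trans (C.U_le_H.trans hM.H_le)
  have hPn : ∀ v ∈ (C.P : Subgroup G), v ∈ normalizer (N2 : Set G) := fun v hv =>
    CaseI.mem_normalizer_inf (hNn (hM.P_le hv))
      (CfsgLib.DGroup.mem_normalizer_centralizer (hUp.P_le hv))
  have hVn : ∀ v ∈ C.V1, v ∈ normalizer (N2 : Set G) := fun v hv => hPn v (V1_le_P C hv)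
  have hN2bad : ∃ x ∈ N2, ¬ Commute x C.z := by
    by_contra hc
    push Not at hc
    obtain ⟨x, hx, hxa⟩ := hNbad
    have hcop : (Nat.card (zpowers C.z)).Coprime p := by
      rw [Nat.card_zpowers, C.inv_z.orderOf]
      exact (Nat.coprime_primes Nat.prime_two Fact.out).2 hp2.symm
    have h := CfsgLib.CoprimeAct.p_times_q_aux _ p Up (zpowers C.z) N rfl hUp.isPGroup hcop
      ((CfsgLib.DGroup.isPGroup_Op p M).to_le hNF) (fun z hz => mem_centralizer_iff.2 fun w hw => by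
        obtain ⟨k, rfl⟩ := mem_zpowers_iff.1 hw
        exact ((C.mem_H.1 (C.U_le_H (hUp.le hz))).symm.zpow_left k).eq) (hUpM.trans hNn)
      (zpowers_le.2 (hNn haM)) (fun z hz => mem_centralizer_iff.2 fun w hw => by
        obtain ⟨k, rfl⟩ := mem_zpowers_iff.1 hw
        exact ((hc z hz).symm.zpow_left k).eq)
    rw [commutator_eq_bot_iff_le_centralizer] at h
    exact hxa (mem_centralizer_iff.1 (h hx) C.z (mem_zpowers _)).symm
  have hN2o : Odd (Nat.card N2) := hFo.of_dvd_nat (card_dvd_of_le (inf_le_left.trans hNF))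
  obtain ⟨y0, hy0, w, hw, hwy, hy0a⟩ :
      ∃ y0 ∈ N2, ∃ w, (w = C.t ∨ w = zt C) ∧ Commute y0 w ∧ ¬ Commute y0 C.z := by
    by_contra hc
    push Not at hc
    obtain ⟨x, hx, hxa⟩ := hN2bad
    refine hxa (mem_centralizer_singleton_iff.1 (CfsgLib.Bender.GSide.le_of_four
      ((Fact.out : p.Prime).odd_of_ne_two hp2)
      ((CfsgLib.DGroup.isPGroup_Op p M).to_le (inf_le_left.trans hNF)) C.inv_z.orderOf C.inv_t.orderOf
      (commute_zt C) (hVn _ (z_mem_V1 C)) (hVn _ (t_mem_V1 C))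
      (le_normalizer (mem_centralizer_singleton_iff.2 rfl))
      (le_normalizer (mem_centralizer_singleton_iff.2 (commute_zt C).symm.eq)) ?_ hx))
    intro w y hw hy hwy
    refine mem_centralizer_singleton_iff.2 ?_
    rcases hw with rfl | rfl | rfl
    exacts [hwy.symm.eq, (hc y hy _ (Or.inl rfl) hwy.symm).eq, (hc y hy _ (Or.inr rfl) hwy.symm).eq]
  have hwV : w ∈ C.V1 := by rcases hw with rfl | rfl; exacts [t_mem_V1 C, zt_mem_V1 C]
  have haS : C.z ∈ normalizer ((N2 ⊓ centralizer ({w} : Set G) : Subgroup G) : Set G) :=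
    CaseI.mem_normalizer_inf (hVn _ (z_mem_V1 C))
      (le_normalizer (mem_centralizer_singleton_iff.2 (commute_of_mem_V1 C (z_mem_V1 C) hwV).eq))
  obtain ⟨f, hf, i, hi, hfa, hia, hfi⟩ := CaseI.exists_split C.inv_z.1
    (hN2o.of_dvd_nat (card_dvd_of_le inf_le_left)) haS
    (⟨hy0, mem_centralizer_singleton_iff.2 hwy.eq⟩ : y0 ∈ N2 ⊓ centralizer ({w} : Set G))
  have hiF : i ∈ F := hNF hi.1.1
  have hio : Odd (orderOf i) := odd_orderOf hFo hiF
  have hi1 : i ≠ 1 := fun h => hy0a (by rw [hfi, h, mul_one]; exact hfa)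
  have hiUp : ∀ x ∈ Up, Commute i x := fun x hx => (mem_centralizer_iff.1 hi.1.2 x hx).symm
  have hiF' : ∀ z ∈ F, Commute z C.z → Commute i z := by
    intro z hz hza
    set d := i * z * i⁻¹ * z⁻¹ with hd
    have hdN : d ∈ N0 := by
      rw [hd, ← commutatorElement_def]; exact commutator_mem_commutator hi.1.1 hz
    have hid : Commute i d := CaseI.commute_of_fixed C.inv_z.1 hio hia (hN0a d hdN)
      (hN0a _ (conj_mem (hN0n (hFM hiF)) hdN))
    have h1 : C.z * d * C.z = d⁻¹ := by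
      rw [hd, CaseI.invol_mul C.inv_z.1, CaseI.invol_mul C.inv_z.1, CaseI.invol_mul C.inv_z.1,
        CaseI.invol_inv C.inv_z.1, CaseI.invol_inv C.inv_z.1, hia,
        CaseI.conj_eq_of_commute C.inv_z.1 hza, inv_inv]
      have e : i⁻¹ * (i * z * i⁻¹ * z⁻¹)⁻¹ * i = (i * z * i⁻¹ * z⁻¹)⁻¹ := by
        rw [← hd, mul_assoc, ← hid.inv_right.eq, inv_mul_cancel_left]
      rw [← e]; group
    rw [CaseI.conj_eq_of_commute C.inv_z.1 (hN0a d hdN)] at h1
    have h2 := CfsgLib.DGroup.eq_one_of_inv_eq h1.symm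
      (odd_orderOf hFo (hNF (hN0le hdN)))
    exact mul_inv_eq_iff_eq_mul.1 (mul_inv_eq_one.1 h2)
  have hiw := mem_centralizer_singleton_iff.1 hi.2
  rcases hw with rfl | rfl
  · exact ⟨i, hiF, hi1, hia, hiw, hiUp, hiF'⟩
  -- exchange `t` and `z t`
  have hsM : sw C ∈ M := hM.P_le (sw_mem_P C)
  refine ⟨sw C * i * (sw C)⁻¹, conj_mem (hMF hsM) hiF, fun h => hi1 (conj_eq_one_iff.1 h), ?_, ?_,
    fun x hx => ?_, fun z hz hza => ?_⟩
  · have hsz := sw_commute_z C
    calc C.z * (sw C * i * (sw C)⁻¹) * C.z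
        = sw C * (C.z * i * C.z) * (sw C)⁻¹ := by
          simp only [mul_assoc]
          rw [← mul_assoc C.z, ← hsz.eq, mul_assoc, hsz.inv_left.eq]
      _ = (sw C * i * (sw C)⁻¹)⁻¹ := by rw [hia]; group
  · have := (Commute.conj_iff (sw C)).2 hiw
    rwa [sw_zt C] at this
  · have h := (Commute.conj_iff (sw C)).2 (hiUp _ (conj_mem' (hUp.P_le (sw_mem_P C)) hx))
    rwa [show sw C * ((sw C)⁻¹ * x * sw C) * (sw C)⁻¹ = x by group] at h
  · have h := (Commute.conj_iff (sw C)).2 (hiF' _ (conj_mem' (hMF hsM) hz) (by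
      have := (Commute.conj_iff (sw C)⁻¹).2 hza
      rwa [inv_inv, show (sw C)⁻¹ * C.z * sw C = C.z by
        rw [mul_assoc, ← (sw_commute_z C).eq, inv_mul_cancel_left]] at this))
    rwa [show sw C * ((sw C)⁻¹ * z * sw C) * (sw C)⁻¹ = z by group] at h

end Over

end CfsgLib.GW.Eight.CaseII
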